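import Cfsg.Agent.Lib.MTwelveInv.Data

/-!
Kernel-checked facts about the table of order 192.
-/

set_option autoImplicit false
set_option maxRecDepth 20000

namespace Cfsg.Agent.Lib.MTwelveInv

/-- The product of the table group. -/
noncomputable def mulT (i j : ℕ) : ℕ :=
  Nat.land (Nat.shiftRight (mulRows.getD i 0) (Nat.mul 8 j)) 255

/-- The involution class of an element: `0` for non-involutions, `1` for the central one. -/
noncomputable def cls (i : ℕ) : ℕ := Nat.land (Nat.shiftRight classCode (Nat.mul 4 i)) 15

/-- Representative of an involution class. -/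
def clsRep : ℕ → ℕ
  | 1 => 1
  | 2 => aI
  | 3 => bI
  | _ => dI

/-- All indices satisfy a Boolean test. -/
noncomputable def allI (p : ℕ → Bool) : Bool := (List.range 192).all p

/-- Number of indices satisfying a Boolean test. -/
noncomputable def cntI (p : ℕ → Bool) : ℕ := (List.range 192).countP p

/-- Two indices commute. -/
noncomputable def commT (i j : ℕ) : Bool := Nat.beq (mulT i j) (mulT j i)

/-- The powers of `i`. -/
noncomputable def powT (i : ℕ) : ℕ → ℕ
  | 0 => 0
  | k + 1 => mulT (powT i k) i

/-- Some small power of `i` is the central involution. -/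
noncomputable def hitsZ (i : ℕ) : Bool := (List.range 9).any fun k => Nat.beq (powT i k) 1

theorem mulT_lt_check : allI (fun i => allI fun j => Nat.blt (mulT i j) 192) = true := by
  decide +kernel

theorem one_check :
    allI (fun i => Nat.beq (mulT 0 i) i && Nat.beq (mulT i 0) i) = true := by decide +kernel

theorem cls_check : allI (fun i =>
    (!Nat.beq (cls i) 0) == (!Nat.beq i 0 && Nat.beq (mulT i i) 0) && Nat.blt (cls i) 5 &&
      (Nat.beq (cls i) 1 == Nat.beq i 1)) = true := by decide +kernel

theorem conj_check : allI (fun i => Nat.beq (cls i) 0 ||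
    (List.range 192).any fun c => Nat.beq (mulT c (clsRep (cls i))) (mulT i c)) = true := by
  decide +kernel

theorem cent_check : allI (fun i =>
    (!Nat.beq (cls i) 2 || Nat.beq (cntI (commT i)) 8) &&
    (!Nat.beq (cls i) 3 || Nat.beq (cntI (commT i)) 16) &&
    (!Nat.beq (cls i) 4 || Nat.beq (cntI (commT i)) 32)) = true := by decide +kernel

theorem central_check : allI (fun i => Nat.blt i 2 || !allI (commT i)) = true := by decide +kernel

theorem order_check : allI (fun i => (List.range 9).any fun k =>
    !Nat.beq k 0 && Nat.beq (powT i k) 0) = true := by decide +kernel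

/-- The reference elements have the expected classes. -/
theorem reps_check : (Nat.beq (cls aI) 2 && Nat.beq (cls bI) 3 && Nat.beq (cls dI) 4 &&
    Nat.beq (cls deI) 4 && Nat.beq (cls wI) 3 && Nat.beq (cls (mulT dI 1)) 4 &&
    Nat.blt aI 192 && Nat.blt bI 192 && Nat.blt dI 192 && Nat.blt deI 192 && Nat.blt wI 192) = true := by
  decide +kernel

/-- The centraliser of the class 2 representative. -/
theorem centA_check : (allI (fun i => !commT aI i ||
      (Nat.beq (mulT i i) 0 && !Nat.beq (cls i) 3 &&
        (!Nat.beq (cls i) 4 || Nat.beq i deI || Nat.beq i (mulT deI 1)))) &&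
    commT aI deI && Nat.beq (cls (mulT deI aI)) 2 &&
    Nat.beq (cls (mulT (mulT deI 1) aI)) 2 && Nat.beq (cls (mulT deI 1)) 4) = true := by
  decide +kernel

/-- The centraliser of the class 3 representative. -/
theorem centB_check : (allI (fun i => !commT bI i ||
      (Nat.blt (mulT i i) 2 && !Nat.beq (cls i) 2 &&
        (!Nat.beq (cls i) 4 || Nat.beq i dI || Nat.beq i (mulT dI 1)))) &&
    commT bI dI && commT bI wI &&
    ((List.range 192).any fun i => commT bI i && Nat.beq (mulT i i) 1)) = true := by
  decide +kernel

theorem sylow_check : (allI (fun i => allI fun j =>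
      !(Nat.testBit sylMask i && Nat.testBit sylMask j) || Nat.testBit sylMask (mulT i j)) &&
    Nat.beq (cntI (Nat.testBit sylMask)) 64 && Nat.testBit sylMask 0 && Nat.testBit sylMask 1 &&
    allI (fun i => !Nat.testBit sylMask i || Nat.blt i 2 ||
      !allI (fun j => !Nat.testBit sylMask j || commT i j))) = true := by decide +kernel

theorem miss_check : (allI (fun i => allI fun j =>
      !(Nat.testBit missMask i && Nat.testBit missMask j) || Nat.testBit missMask (mulT i j)) &&
    Nat.beq (cntI (Nat.testBit missMask)) 32 && Nat.testBit missMask 0 &&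
    allI (fun i => !Nat.testBit missMask i || (Nat.testBit sylMask i && !Nat.beq (cls i) 2))) = true := by
  decide +kernel

theorem half_check : (allI (fun i => allI fun j =>
      !(Nat.testBit halfMask i && Nat.testBit halfMask j) || Nat.testBit halfMask (mulT i j)) &&
    Nat.beq (cntI (Nat.testBit halfMask)) 8 && Nat.testBit halfMask 0 &&
    Nat.testBit halfMask 1 && Nat.testBit halfMask dI && Nat.testBit halfMask wI &&
    !Nat.testBit halfMask bI &&
    allI (fun i => !Nat.testBit halfMask i || commT bI i)) = true := by decide +kernel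

/-- Membership in the four-group `{1, z, d, dz}`. -/
noncomputable def inV (i : ℕ) : Bool :=
  Nat.beq i 0 || Nat.beq i 1 || Nat.beq i dI || Nat.beq i (mulT dI 1)

theorem four_check : (allI (fun i => !(commT bI i && commT dI i) || inV i || inV (mulT bI i)) &&
    allI (fun i => !commT bI i || commT dI i || commT dI (mulT wI i)) &&
    allI (fun i => !inV i || (commT bI i && commT dI i && Nat.testBit halfMask i)) &&
    Nat.beq (cntI (fun i => commT bI i && commT dI i)) 8 && Nat.beq (cntI inV) 4 &&
    !commT dI wI && commT dI 1) = true := by decide +kernel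

theorem zero_four_check : allI (fun i => allI fun j =>
    !((Nat.beq (cls i) 1 || Nat.beq (cls i) 4) && (Nat.beq (cls j) 1 || Nat.beq (cls j) 4)) ||
      commT i j) = true := by decide +kernel

theorem zero_four_count :
    cntI (fun i => Nat.beq (cls i) 1 || Nat.beq (cls i) 4) = 7 := by decide +kernel

/-- First fusion pattern: classes `1, 2, 4` against class `3`. -/
theorem pairs_first : ((List.range 192).map fun i => cntI fun j =>
    (Nat.beq (cls i) 1 || Nat.beq (cls i) 2 || Nat.beq (cls i) 4) && Nat.beq (cls j) 3 &&
      hitsZ (mulT i j)).sum = 240 := by decide +kernel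

/-- Second fusion pattern: classes `1, 4` against classes `2, 3`. -/
theorem pairs_second : ((List.range 192).map fun i => cntI fun j =>
    (Nat.beq (cls i) 1 || Nat.beq (cls i) 4) && (Nat.beq (cls j) 2 || Nat.beq (cls j) 3) &&
      hitsZ (mulT i j)).sum = 48 := by decide +kernel

/-- Non-commuting pairs of the first class. -/
theorem pairs_within : ((List.range 192).map fun i => cntI fun j =>
    (Nat.beq (cls i) 1 || Nat.beq (cls i) 2 || Nat.beq (cls i) 4) &&
      (Nat.beq (cls j) 1 || Nat.beq (cls j) 2 || Nat.beq (cls j) 4) &&
      !commT i j && hitsZ (mulT i j)).sum = 288 := by decide +kernel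

end Cfsg.Agent.Lib.MTwelveInv
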