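import Mathlib
import Cfsg.Agent.Lib.MTwelveInv.Checks

/-!
Tables for the centraliser of an involution: the element with index `1` is the involution, and the
index map is a bijection from `{0, …, 191}` onto the centraliser compatible with `mulT`.
-/

set_option autoImplicit false

namespace Cfsg.Agent.Lib.MTwelveInv

theorem beq_true_iff (a b : ℕ) : Nat.beq a b = true ↔ a = b :=
  ⟨Nat.eq_of_beq_eq_true, fun h => h ▸ Nat.beq_refl a⟩

theorem beq_false_iff (a b : ℕ) : Nat.beq a b = false ↔ a ≠ b := by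
  rw [ne_eq, ← beq_true_iff, Bool.not_eq_true]

theorem countP_range_eq_card (n : ℕ) (p : ℕ → Bool) :
    (List.range n).countP p = ((Finset.range n).filter fun i => p i = true).card := by
  simp [List.countP_eq_length_filter, Finset.card, Finset.filter, Finset.range, Multiset.range]

theorem sum_range_map (n : ℕ) (g : ℕ → ℕ) :
    ((List.range n).map g).sum = ∑ i ∈ Finset.range n, g i := rfl

theorem allI_spec {p : ℕ → Bool} (h : allI p = true) {i : ℕ} (hi : i < 192) : p i = true :=
  List.all_eq_true.1 h i (List.mem_range.2 hi)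

theorem mulT_lt {i j : ℕ} (hi : i < 192) (hj : j < 192) : mulT i j < 192 := by
  have h := allI_spec (allI_spec mulT_lt_check hi) hj
  simpa [Nat.blt_eq] using h

theorem mulT_zero {i : ℕ} (hi : i < 192) : mulT 0 i = i ∧ mulT i 0 = i := by
  have h := allI_spec one_check hi
  simpa [beq_true_iff] using h

theorem cls_ne_zero_iff {i : ℕ} (hi : i < 192) : cls i ≠ 0 ↔ i ≠ 0 ∧ mulT i i = 0 := by
  have h := allI_spec cls_check hi
  simp only [Bool.and_eq_true] at h
  have h1 := h.1.1
  rw [beq_iff_eq] at h1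
  rw [Bool.eq_iff_iff] at h1
  simpa [beq_true_iff, beq_false_iff] using h1

theorem cls_lt {i : ℕ} (hi : i < 192) : cls i < 5 := by
  have h := allI_spec cls_check hi
  simp only [Bool.and_eq_true] at h
  simpa [Nat.blt_eq] using h.1.2

theorem cls_eq_one_iff {i : ℕ} (hi : i < 192) : cls i = 1 ↔ i = 1 := by
  have h := allI_spec cls_check hi
  simp only [Bool.and_eq_true] at h
  have h1 := h.2
  rw [beq_iff_eq, Bool.eq_iff_iff] at h1
  simpa [beq_true_iff, beq_false_iff] using h1

/-- The index map of a centraliser. -/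
structure Table {G : Type*} [Group G] (t : G) (f : ℕ → G) : Prop where
  one : f 0 = 1
  inv_eq : f 1 = t
  inj : ∀ i < 192, ∀ j < 192, f i = f j → i = j
  mul : ∀ i < 192, ∀ j < 192, f (mulT i j) = f i * f j
  range : ∀ x : G, x * t = t * x ↔ ∃ i < 192, f i = x

namespace Table

variable {G : Type*} [Group G] {t : G} {f : ℕ → G} (T : Table t f)
include T

theorem commute_iff {i j : ℕ} (hi : i < 192) (hj : j < 192) :
    Commute (f i) (f j) ↔ commT i j = true := by
  constructor
  · intro h
    have h' : f (mulT i j) = f (mulT j i) := by rw [T.mul i hi j hj, T.mul j hj i hi, h.eq]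
    simpa [commT, beq_true_iff] using T.inj _ (mulT_lt hi hj) _ (mulT_lt hj hi) h'
  · intro h
    show f i * f j = f j * f i
    rw [← T.mul i hi j hj, ← T.mul j hj i hi, show mulT i j = mulT j i by simpa [commT, beq_true_iff] using h]

theorem commute_t {i : ℕ} (hi : i < 192) : f i * t = t * f i := (T.range _).2 ⟨i, hi, rfl⟩

theorem mul_self_eq_one_iff {i : ℕ} (hi : i < 192) : f i * f i = 1 ↔ mulT i i = 0 := by
  rw [← T.mul i hi i hi, ← T.one]
  exact ⟨fun h => T.inj _ (mulT_lt hi hi) _ (by norm_num) h, fun h => by rw [h]⟩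

theorem ne_one {i : ℕ} (hi : i < 192) (h : i ≠ 0) : f i ≠ 1 := fun he =>
  h (T.inj i hi 0 (by norm_num) (he.trans T.one.symm))

theorem orderOf_eq_two {i : ℕ} (hi : i < 192) (h : cls i ≠ 0) : orderOf (f i) = 2 := by
  obtain ⟨h0, h1⟩ := (cls_ne_zero_iff hi).1 h
  exact orderOf_eq_prime (by rw [pow_two]; exact (T.mul_self_eq_one_iff hi).2 h1) (T.ne_one hi h0)

theorem orderOf_t : orderOf t = 2 := by
  rw [← T.inv_eq]
  exact T.orderOf_eq_two (by norm_num) (by rw [(cls_eq_one_iff (by norm_num)).2 rfl]; norm_num)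

theorem exists_index_of_involution {x : G} (hx : x * x = 1) (hx1 : x ≠ 1) (hc : x * t = t * x) :
    ∃ i < 192, cls i ≠ 0 ∧ f i = x := by
  obtain ⟨i, hi, rfl⟩ := (T.range x).1 hc
  refine ⟨i, hi, (cls_ne_zero_iff hi).2 ⟨fun h => hx1 (h ▸ T.one), (T.mul_self_eq_one_iff hi).1 hx⟩, rfl⟩

/-- Every involution of the centraliser is conjugate in it to its class representative. -/
theorem exists_conj_rep {i : ℕ} (hi : i < 192) (h : cls i ≠ 0) :
    ∃ c : G, c * t = t * c ∧ c * f (clsRep (cls i)) * c⁻¹ = f i := by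
  have h1 := allI_spec conj_check hi
  simp only [Bool.or_eq_true, List.any_eq_true, List.mem_range] at h1
  rcases h1 with h1 | ⟨c, hc, h1⟩
  · exact absurd (Nat.eq_of_beq_eq_true h1) h
  · have hr : clsRep (cls i) < 192 := by
      have hlt := cls_lt hi
      have hreps := reps_check
      simp only [Bool.and_eq_true, Nat.blt_eq] at hreps
      have : cls i = 1 ∨ cls i = 2 ∨ cls i = 3 ∨ cls i = 4 := by omega
      rcases this with e | e | e | e <;> simp [e, clsRep, hreps]
    refine ⟨f c, T.commute_t hc, ?_⟩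
    rw [← T.mul c hc _ hr, Nat.eq_of_beq_eq_true h1, T.mul i hi c hc, mul_inv_cancel_right]

/-- The centraliser as a subgroup is the image of the index set. -/
theorem mem_centralizer {x : G} :
    x ∈ Subgroup.centralizer ({t} : Set G) ↔ ∃ i < 192, f i = x := by
  rw [Subgroup.mem_centralizer_singleton_iff]
  exact T.range x

theorem card_subtype (p : G → Prop) (q : ℕ → Bool) (hpq : ∀ i < 192, p (f i) ↔ q i = true)
    (hC : ∀ x, p x → x * t = t * x) : Nat.card {x : G // p x} = cntI q := by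
  classical
  have hcard : cntI q = ((Finset.range 192).filter fun i => q i = true).card := by
    exact countP_range_eq_card _ q
  rw [hcard, ← Nat.card_eq_finsetCard]
  refine (Nat.card_eq_of_bijective
    (fun i : ((Finset.range 192).filter fun i => q i = true) =>
      (⟨f i, (hpq i (Finset.mem_range.1 (Finset.mem_filter.1 i.2).1)).2
        (Finset.mem_filter.1 i.2).2⟩ : {x : G // p x})) ⟨?_, ?_⟩).symm
  · intro i j h
    exact Subtype.ext (T.inj i (Finset.mem_range.1 (Finset.mem_filter.1 i.2).1) j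
      (Finset.mem_range.1 (Finset.mem_filter.1 j.2).1) (Subtype.mk.inj h))
  · intro x
    obtain ⟨i, hi, hx⟩ := (T.range x.1).1 (hC _ x.2)
    refine ⟨⟨i, Finset.mem_filter.2 ⟨Finset.mem_range.2 hi, ?_⟩⟩, Subtype.ext hx⟩
    exact (hpq i hi).1 (hx.symm ▸ x.2)

theorem card_centralizer : Nat.card (Subgroup.centralizer ({t} : Set G)) = 192 := by
  rw [show Nat.card (Subgroup.centralizer ({t} : Set G)) =
      Nat.card {x : G // x * t = t * x} from
    Nat.card_congr (Equiv.subtypeEquivRight fun x => Subgroup.mem_centralizer_singleton_iff)]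
  rw [T.card_subtype _ (fun _ => true) (fun i hi => by simp [T.commute_t hi]) fun _ h => h]
  simp [cntI]

/-- A subgroup given by a set of indices. -/
noncomputable def subgroupOfMask (m : ℕ)
    (hm : allI (fun i => allI fun j =>
      !(Nat.testBit m i && Nat.testBit m j) || Nat.testBit m (mulT i j)) = true)
    (h0 : Nat.testBit m 0 = true) [Finite G] : Subgroup G :=
  let M : Submonoid G :=
    { carrier := {x | ∃ i < 192, Nat.testBit m i = true ∧ f i = x}
      one_mem' := ⟨0, by norm_num, h0, T.one⟩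
      mul_mem' := by
        rintro _ _ ⟨i, hi, hbi, rfl⟩ ⟨j, hj, hbj, rfl⟩
        refine ⟨mulT i j, mulT_lt hi hj, ?_, T.mul i hi j hj⟩
        have := allI_spec (allI_spec hm hi) hj
        simpa [hbi, hbj] using this }
  { M with
    inv_mem' := fun {x} hx => by
      have : x⁻¹ ∈ Submonoid.powers x := by
        rw [(isOfFinOrder_of_finite x).mem_powers_iff_mem_zpowers]
        exact Subgroup.inv_mem _ (Subgroup.mem_zpowers x)
      exact (Submonoid.powers_le.2 (show x ∈ M from hx)) this }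

theorem mem_subgroupOfMask {m : ℕ} {hm h0} [Finite G] {x : G} :
    x ∈ T.subgroupOfMask m hm h0 ↔ ∃ i < 192, Nat.testBit m i = true ∧ f i = x := Iff.rfl

theorem mem_subgroupOfMask_index {m : ℕ} {hm h0} [Finite G] {i : ℕ} (hi : i < 192) :
    f i ∈ T.subgroupOfMask m hm h0 ↔ Nat.testBit m i = true := by
  refine ⟨fun ⟨j, hj, hb, he⟩ => ?_, fun h => ⟨i, hi, h, rfl⟩⟩
  rwa [T.inj j hj i hi he] at hb

theorem card_subgroupOfMask {m : ℕ} {hm h0} [Finite G] :
    Nat.card (T.subgroupOfMask m hm h0) = cntI (Nat.testBit m) :=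
  T.card_subtype (fun x => x ∈ T.subgroupOfMask m hm h0) (Nat.testBit m)
    (fun _ hi => T.mem_subgroupOfMask_index hi)
    fun _ ⟨_, hi, _, he⟩ => he ▸ T.commute_t hi

omit T in
theorem pair_card {G : Type*} [Group G] {t : G} {f : ℕ → G} (T : Table t f) (p : G → G → Prop)
    (q : ℕ → ℕ → Bool) (hpq : ∀ i < 192, ∀ j < 192, p (f i) (f j) ↔ q i j = true)
    (hC : ∀ x y, p x y → x * t = t * x ∧ y * t = t * y) :
    Nat.card {w : G × G // p w.1 w.2} = ((List.range 192).map fun i => cntI (q i)).sum := by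
  classical
  obtain ⟨S, hS, hmem⟩ : ∃ S : Finset (ℕ × ℕ),
      S.card = ((List.range 192).map fun i => cntI (q i)).sum ∧
      ∀ w, w ∈ S ↔ w.1 < 192 ∧ w.2 < 192 ∧ q w.1 w.2 = true := by
    have gen : ∀ n, ∃ S : Finset (ℕ × ℕ),
        S.card = ((List.range n).map fun i => (List.range n).countP (q i)).sum ∧
        ∀ w, w ∈ S ↔ w.1 < n ∧ w.2 < n ∧ q w.1 w.2 = true := fun n => by
      refine ⟨(Finset.range n ×ˢ Finset.range n).filter fun w => q w.1 w.2 = true, ?_, fun w => ?_⟩
      · rw [Finset.card_filter, Finset.sum_product, sum_range_map]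
        refine Finset.sum_congr rfl fun i _ => ?_
        rw [← Finset.card_filter]
        exact (countP_range_eq_card n _).symm
      · simp [and_assoc]
    exact gen 192
  rw [← hS, ← Nat.card_eq_finsetCard]
  refine (Nat.card_eq_of_bijective
    (fun i : S => (⟨(f i.1.1, f i.1.2), ?_⟩ : {w : G × G // p w.1 w.2})) ⟨?_, ?_⟩).symm
  · obtain ⟨h1, h2, hq⟩ := (hmem _).1 i.2
    exact (hpq _ h1 _ h2).2 hq
  · intro i j h
    obtain ⟨hi1, hi2, -⟩ := (hmem _).1 i.2
    obtain ⟨hj1, hj2, -⟩ := (hmem _).1 j.2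
    have h' := Prod.ext_iff.1 (Subtype.mk.inj h)
    exact Subtype.ext (Prod.ext (T.inj _ hi1 _ hj1 h'.1) (T.inj _ hi2 _ hj2 h'.2))
  · intro x
    obtain ⟨hx, hy⟩ := hC _ _ x.2
    obtain ⟨i, hi, hix⟩ := (T.range x.1.1).1 hx
    obtain ⟨j, hj, hjy⟩ := (T.range x.1.2).1 hy
    refine ⟨⟨(i, j), (hmem _).2 ⟨hi, hj, ?_⟩⟩, Subtype.ext (Prod.ext hix hjy)⟩
    refine (hpq i hi j hj).1 ?_
    rw [hix, hjy]
    exact x.2

end Table

end Cfsg.Agent.Lib.MTwelveInv
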