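import Mathlib
import Cfsg.Agent.Lib.Involution.Basic
import Cfsg.Agent.Lib.BSW.Main

/-!
A group with a four-group Sylow subgroup which is the centraliser of each of its involutions has
order 4, 12 or 60; the number of ordered pairs of involutions with product of odd order.
-/

set_option autoImplicit false

namespace Cfsg.Agent.Lib.MTwelveInv

open Cfsg.Agent.Lib

variable {L : Type*} [Group L] [Finite L]

/-- The hypotheses on the group with four-group Sylow subgroup `V`. -/
structure FourHyp (V : Subgroup L) : Prop where
  card_V : Nat.card V = 4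
  exp : ∀ x ∈ V, x * x = 1
  odd_index : Odd V.index
  cent : ∀ v : L, orderOf v = 2 → Nat.card (Subgroup.centralizer ({v} : Set L)) = 4

namespace FourHyp

variable {V : Subgroup L} (h : FourHyp V)
include h

theorem comm {x y : L} (hx : x ∈ V) (hy : y ∈ V) : x * y = y * x := by
  have h1 := Involution.inv_eq_self (h.exp _ (V.mul_mem hx hy))
  rw [mul_inv_rev, Involution.inv_eq_self (h.exp x hx), Involution.inv_eq_self (h.exp y hy)] at h1
  exact h1.symm

theorem centralizer_eq {v : L} (hv : orderOf v = 2) (hvV : v ∈ V) :
    Subgroup.centralizer ({v} : Set L) = V := by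
  refine (Subgroup.eq_of_le_of_card_ge (fun x hx => Subgroup.mem_centralizer_singleton_iff.2
    (h.comm hx hvV)) ?_).symm
  rw [h.cent v hv, h.card_V]

theorem exists_conj_mem {x : L} (hx : orderOf x = 2) : ∃ g : L, g * x * g⁻¹ ∈ V := by
  have : Fact (Nat.Prime 2) := ⟨Nat.prime_two⟩
  have hp : IsPGroup 2 (Subgroup.zpowers x) :=
    IsPGroup.of_card (n := 1) (by rw [Nat.card_zpowers, hx, pow_one])
  obtain ⟨Q, hQ⟩ := hp.exists_le_sylow
  let S : Sylow 2 L := (IsPGroup.of_card (n := 2) (by rw [h.card_V]; norm_num) :
    IsPGroup 2 V).toSylow (by rw [← even_iff_two_dvd, Nat.not_even_iff_odd]; exact h.odd_index)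
  obtain ⟨g, hg⟩ := MulAction.exists_smul_eq L Q S
  refine ⟨g, ?_⟩
  show g * x * g⁻¹ ∈ (S : Subgroup L)
  rw [← hg]
  exact Subgroup.mem_map.2 ⟨x, hQ (Subgroup.mem_zpowers x), rfl⟩

theorem exists_involutions :
    ∃ t d : L, t ∈ V ∧ d ∈ V ∧ orderOf t = 2 ∧ orderOf d = 2 ∧ d ≠ t ∧
      ∀ x ∈ V, x = 1 ∨ x = t ∨ x = d ∨ x = t * d := by
  classical
  have := Fintype.ofFinite L
  obtain ⟨t, htV, ht⟩ : ∃ t ∈ V, t ≠ 1 := by
    by_contra hc
    push Not at hc
    rw [(Subgroup.eq_bot_iff_forall V).2 hc] at h
    have := h.card_V
    simp at this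
  obtain ⟨d, hdV, hd, hdt⟩ : ∃ d ∈ V, d ≠ 1 ∧ d ≠ t := by
    by_contra hc
    push Not at hc
    have hle : (Finset.univ.filter fun x => x ∈ V) ⊆ {1, t} := fun x hx => by
      simp only [Finset.mem_filter, Finset.mem_univ, true_and] at hx
      simp only [Finset.mem_insert, Finset.mem_singleton]
      by_cases hx1 : x = 1
      · exact Or.inl hx1
      · exact Or.inr (hc x hx hx1)
    have := Finset.card_le_card hle
    rw [show (Finset.univ.filter fun x => x ∈ V).card = 4 by
      rw [← h.card_V, Nat.card_eq_fintype_card, ← Fintype.card_subtype]] at this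
    exact absurd (this.trans Finset.card_le_two) (by norm_num)
  refine ⟨t, d, htV, hdV, Involution.orderOf_eq_two (h.exp t htV) ht,
    Involution.orderOf_eq_two (h.exp d hdV) hd, hdt, fun x hx => ?_⟩
  by_contra hc
  push Not at hc
  have hle : ({1, t, d, t * d, x} : Finset L) ⊆ Finset.univ.filter fun x => x ∈ V := by
    intro y hy
    simp only [Finset.mem_insert, Finset.mem_singleton] at hy
    simp only [Finset.mem_filter, Finset.mem_univ, true_and]
    rcases hy with rfl | rfl | rfl | rfl | rfl
    exacts [V.one_mem, htV, hdV, V.mul_mem htV hdV, hx]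
  have htd1 : t * d ≠ 1 := fun e => hdt (by
    rw [← Involution.inv_eq_self (h.exp t htV)]; exact eq_inv_of_mul_eq_one_right e)
  have htd2 : t * d ≠ t := fun e => hd (mul_left_cancel (e.trans (mul_one t).symm))
  have htd3 : t * d ≠ d := fun e => ht (mul_right_cancel (e.trans (one_mul d).symm))
  have := Finset.card_le_card hle
  rw [show (Finset.univ.filter fun x => x ∈ V).card = 4 by
    rw [← h.card_V, Nat.card_eq_fintype_card, ← Fintype.card_subtype]] at this
  simp [hc.1.symm, hc.2.1.symm, hc.2.2.1.symm, hc.2.2.2.symm, ht.symm, hd.symm, hdt.symm,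
    htd1.symm, htd2.symm, htd3.symm] at this

theorem odd_normalized_trivial (N : Subgroup L) (hN : Odd (Nat.card N))
    (hnorm : ∀ v ∈ V, ∀ n ∈ N, v * n * v⁻¹ ∈ N) : N = ⊥ := by
  obtain ⟨t, d, htV, hdV, ht, hd, hdt, -⟩ := h.exists_involutions
  have hfix : ∀ v, orderOf v = 2 → ∀ n ∈ N, v * n = n * v → n = 1 := by
    intro v hv n hn hc
    have h1 : orderOf n ∣ 4 := by
      rw [← h.cent v hv]
      exact Subgroup.orderOf_dvd_natCard _ (Subgroup.mem_centralizer_singleton_iff.2 hc.symm)
    have h2 : Odd (orderOf n) := hN.of_dvd_nat (Subgroup.orderOf_dvd_natCard _ hn)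
    rw [← orderOf_eq_one_iff]
    have := Nat.le_of_dvd (by norm_num) h1
    rw [Nat.odd_iff] at h2
    interval_cases orderOf n <;> omega
  have hinv : ∀ v ∈ V, orderOf v = 2 → ∀ n ∈ N, v * n * v⁻¹ = n⁻¹ := by
    intro v hvV hv n hn
    let φ : ↥N →* ↥N :=
      { toFun := fun x => ⟨v * x * v⁻¹, hnorm v hvV x x.2⟩
        map_one' := Subtype.ext (by simp)
        map_mul' := fun x y => Subtype.ext (by simp only [Subgroup.coe_mul]; group) }
    have hφ : MonoidHom.FixedPointFree φ := fun x hx =>
      Subtype.ext (hfix v hv x x.2 (mul_inv_eq_iff_eq_mul.1 (congrArg Subtype.val hx)))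
    have h2 : Function.Involutive φ := fun x => Subtype.ext (by
      show v * (v * x * v⁻¹) * v⁻¹ = x
      have hvv := Involution.mul_self_eq_one hv
      rw [Involution.inv_eq_self hvv]
      calc v * (v * x * v) * v = (v * v) * x * (v * v) := by group
        _ = x := by rw [hvv, one_mul, mul_one])
    exact congrArg Subtype.val (congrFun (hφ.coe_eq_inv_of_involutive h2) ⟨n, hn⟩)
  refine (Subgroup.eq_bot_iff_forall N).2 fun n hn => ?_
  have htd : orderOf (t * d) = 2 := by
    refine Involution.orderOf_eq_two (h.exp _ (V.mul_mem htV hdV)) fun e => hdt ?_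
    rw [← Involution.inv_eq_self (h.exp t htV)]; exact eq_inv_of_mul_eq_one_right e
  refine hfix (t * d) htd n hn (mul_inv_eq_iff_eq_mul.1 ?_)
  calc t * d * n * (t * d)⁻¹ = t * (d * n * d⁻¹) * t⁻¹ := by group
    _ = (t * n * t⁻¹)⁻¹ := by rw [hinv d hdV hd n hn]; group
    _ = n := by rw [hinv t htV ht n hn, inv_inv]

theorem card_cases : Nat.card L = 4 ∨
    ((Nat.card L = 12 ∨ Nat.card L = 60) ∧ ∀ x y : L, orderOf x = 2 → orderOf y = 2 → IsConj x y) := by
  classical
  have : Fact (Nat.Prime 2) := ⟨Nat.prime_two⟩
  obtain ⟨t, d, htV, hdV, ht, hd, hdt, hV⟩ := h.exists_involutions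
  by_cases hall : ∀ v ∈ V, orderOf v = 2 → IsConj t v
  · right
    have hconj : ∀ x : L, orderOf x = 2 → IsConj t x := fun x hx => by
      obtain ⟨g, hg⟩ := h.exists_conj_mem hx
      exact (hall _ hg (by rw [Involution.orderOf_conj_eq]; exact hx)).trans
        (isConj_iff.2 ⟨g, rfl⟩ : IsConj x _).symm
    refine ⟨?_, fun x y hx hy => (hconj x hx).symm.trans (hconj y hy)⟩
    have hz : ∀ y ∈ Subgroup.zpowers t, y = 1 ∨ y = t := by
      rintro y ⟨k, rfl⟩
      show t ^ k = 1 ∨ t ^ k = t
      rcases Int.even_or_odd k with ⟨j, rfl⟩ | ⟨j, rfl⟩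
      · left; rw [← two_mul, zpow_mul, zpow_two, h.exp t htV, one_zpow]
      · right; rw [zpow_add, zpow_mul, zpow_two, h.exp t htV, one_zpow, one_mul, zpow_one]
    let S : BSW.Setup L :=
      { t := t
        K := Subgroup.zpowers t
        s := d
        ht := ht
        hKab := fun a ha b hb => h.comm ((Subgroup.zpowers_le.2 htV) ha) ((Subgroup.zpowers_le.2 htV) hb)
        htK := Subgroup.mem_zpowers t
        hs := hd
        hsC := h.comm hdV htV
        hsK := fun hs => by
          rcases hz d hs with e | e
          · exact Involution.ne_one hd e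
          · exact hdt e
        hH := fun x hx => by
          have hxV : x ∈ V := by
            rw [← h.centralizer_eq ht htV]; exact Subgroup.mem_centralizer_singleton_iff.2 hx
          have htt := Subgroup.mem_zpowers t
          rcases hV x hxV with rfl | rfl | rfl | rfl
          · exact Or.inl (one_mem _)
          · exact Or.inl htt
          · exact Or.inr (by rw [h.exp _ hdV]; exact one_mem _)
          · refine Or.inr ?_
            rw [← mul_assoc, h.comm hdV htV, mul_assoc, h.exp _ hdV, mul_one]
            exact htt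
        hinv := fun x hx => by
          have hxV := (Subgroup.zpowers_le.2 htV) hx
          rw [h.comm hdV hxV, mul_inv_cancel_right, Involution.inv_eq_self (h.exp x hxV)]
        hfix := fun x hx _ => hz x hx
        hTI := fun g x hx hx1 hgx => by
          obtain rfl := (hz x hx).resolve_left hx1
          exact mul_inv_eq_iff_eq_mul.1
            ((hz _ hgx).resolve_left fun e => hx1 (conj_eq_one_iff.1 e))
        hconj := hconj }
    have hK : Nat.card S.K = 2 := by rw [show S.K = Subgroup.zpowers t from rfl, Nat.card_zpowers, ht]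
    rcases S.card_group with e | e <;> rw [hK] at e <;> omega
  · left
    push Not at hall
    obtain ⟨v, hvV, hv, hnc⟩ := hall
    -- some involution of `V` is conjugate in the group to no other element of `V`
    obtain ⟨w, hwV, hw, hsingle⟩ : ∃ w ∈ V, orderOf w = 2 ∧ ∀ y ∈ V, IsConj w y → y = w := by
      have hcases : ∀ y ∈ V, orderOf y = 2 → y = t ∨ y = d ∨ y = t * d := fun y hy hy2 =>
        (hV y hy).resolve_left (Involution.ne_one hy2)
      by_contra hc
      push Not at hc
      have htd : orderOf (t * d) = 2 := by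
        refine Involution.orderOf_eq_two (h.exp _ (V.mul_mem htV hdV)) fun e => hdt ?_
        rw [← Involution.inv_eq_self (h.exp t htV)]; exact eq_inv_of_mul_eq_one_right e
      obtain ⟨y1, hy1, hc1, hn1⟩ := hc t htV ht
      obtain ⟨y2, hy2, hc2, hn2⟩ := hc d hdV hd
      obtain ⟨y3, hy3, hc3, hn3⟩ := hc _ (V.mul_mem htV hdV) htd
      have o1 := hcases y1 hy1 ((Involution.isConj_orderOf hc1).trans ht)
      have o2 := hcases y2 hy2 ((Involution.isConj_orderOf hc2).trans hd)
      have o3 := hcases y3 hy3 ((Involution.isConj_orderOf hc3).trans htd)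
      have H : IsConj t d ∧ IsConj t (t * d) := by
        rcases o1 with rfl | rfl | rfl
        · exact absurd rfl hn1
        · refine ⟨hc1, ?_⟩
          rcases o3 with rfl | rfl | rfl
          · exact hc3.symm
          · exact hc1.trans hc3.symm
          · exact absurd rfl hn3
        · refine ⟨?_, hc1⟩
          rcases o2 with rfl | rfl | rfl
          · exact hc2.symm
          · exact absurd rfl hn2
          · exact hc1.trans hc2.symm
      rcases hcases v hvV hv with rfl | rfl | rfl
      · exact hnc (IsConj.refl _)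
      · exact hnc H.1
      · exact hnc H.2
    have hN : Subgroup.normalizer (V : Set L) ≤ Subgroup.centralizer (V : Set L) := by
      intro g hg
      rw [Subgroup.mem_centralizer_iff]
      intro x hx
      have hfix : g * w * g⁻¹ = w :=
        hsingle _ ((Subgroup.mem_normalizer_iff.1 hg w).1 hwV) (isConj_iff.2 ⟨g, rfl⟩)
      have hgV : g ∈ V := by
        rw [← h.centralizer_eq hw hwV]
        exact Subgroup.mem_centralizer_singleton_iff.2 (mul_inv_eq_iff_eq_mul.1 hfix)
      exact h.comm hx hgV
    let P : Sylow 2 L := (IsPGroup.of_card (n := 2) (by rw [h.card_V]; norm_num) :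
      IsPGroup 2 V).toSylow (by rw [← even_iff_two_dvd, Nat.not_even_iff_odd]; exact h.odd_index)
    have hcompl := MonoidHom.ker_transferSylow_isComplement' P hN
    have hodd : Odd (Nat.card (MonoidHom.transferSylow P hN).ker) := by
      rw [← Nat.not_even_iff_odd, even_iff_two_dvd]
      exact MonoidHom.not_dvd_card_ker_transferSylow P hN
    have hbot := h.odd_normalized_trivial _ hodd fun v _ n hn =>
      (MonoidHom.normal_ker _).conj_mem n hn v
    have := hcompl.card_mul
    rw [hbot, Subgroup.card_bot, one_mul] at this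
    rw [← this, ← h.card_V]
    rfl

theorem card_involutions :
    (Nat.card L = 4 ∨ Nat.card L = 12 ∨ Nat.card L = 60) ∧
      Nat.card {x : L // orderOf x = 2} = (if Nat.card L = 60 then 15 else 3) := by
  classical
  have := Fintype.ofFinite L
  obtain ⟨t, d, htV, hdV, ht, hd, hdt, hV⟩ := h.exists_involutions
  rcases h.card_cases with h4 | ⟨h12, hconj⟩
  · refine ⟨Or.inl h4, ?_⟩
    rw [if_neg (by omega)]
    have hVtop : V = ⊤ := Subgroup.eq_top_of_card_eq V (by rw [h.card_V, h4])
    have hiff : ∀ x : L, orderOf x = 2 ↔ x ≠ 1 := fun x =>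
      ⟨Involution.ne_one, Involution.orderOf_eq_two (h.exp x (hVtop ▸ Subgroup.mem_top x))⟩
    rw [Nat.card_congr (Equiv.subtypeEquivRight hiff), Nat.card_eq_fintype_card,
      Fintype.card_subtype_compl, Fintype.card_subtype_eq, ← Nat.card_eq_fintype_card, h4]
  · refine ⟨Or.inr h12, ?_⟩
    have hcl : Nat.card {x : L // orderOf x = 2} = Nat.card {x : L // IsConj t x} :=
      Nat.card_congr (Equiv.subtypeEquivRight fun x => ⟨fun hx => hconj t x ht hx,
        fun hx => (Involution.isConj_orderOf hx).trans ht⟩)
    have horb := Cfsg.Agent.Lib.Involution.card_isConj_mul_card_centralizer t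
    rw [h.cent t ht, ← hcl] at horb
    rcases h12 with e | e <;> rw [e] at horb <;> split_ifs <;> omega

/-- Ordered pairs of involutions whose product has odd order. -/
theorem card_odd_pairs :
    Nat.card {p : L × L // orderOf p.1 = 2 ∧ orderOf p.2 = 2 ∧ Odd (orderOf (p.1 * p.2))} =
      Nat.card {x : L // orderOf x = 2} * (Nat.card {x : L // orderOf x = 2} - 2) := by
  classical
  have := Fintype.ofFinite L
  set I := Finset.univ.filter fun x : L => orderOf x = 2 with hI
  have hIc : Nat.card {x : L // orderOf x = 2} = I.card := by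
    rw [Nat.card_eq_fintype_card, Fintype.card_subtype]
  have hodd : ∀ u k : L, orderOf u = 2 → orderOf k = 2 →
      (Odd (orderOf (u * k)) ↔ (u * k ≠ k * u ∨ u = k)) := by
    intro u k hu hk
    have huu := Involution.mul_self_eq_one hu
    have hkk := Involution.mul_self_eq_one hk
    constructor
    · intro ho
      by_contra hc
      push Not at hc
      have hdvd : orderOf (u * k) ∣ 2 := orderOf_dvd_of_pow_eq_one (by
        rw [pow_two, mul_assoc, ← mul_assoc k, ← hc.1, mul_assoc u, hkk, mul_one, huu])
      rcases (Nat.dvd_prime Nat.prime_two).1 hdvd with e | e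
      · exact hc.2 (by rw [orderOf_eq_one_iff] at e
                       rw [← Involution.inv_eq_self hkk]; exact eq_inv_of_mul_eq_one_left e)
      · rw [e] at ho; exact absurd ho (by decide)
    · rintro (hc | rfl)
      · rw [← Nat.not_even_iff_odd]
        rintro ⟨j, hj⟩
        set w := (u * k) ^ j with hw
        have hpos := orderOf_pos (u * k)
        have hww : w * w = 1 := by rw [hw, ← pow_add, ← hj, pow_orderOf_eq_one]
        have hw1 : w ≠ 1 := pow_ne_one_of_lt_orderOf (by omega) (by omega)
        have hwinv := Involution.inv_eq_self hww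
        have hcu : u * w = w * u := by
          rw [hw, Involution.mul_pow_pair huu hkk, ← hw, hwinv]
        have hck : k * w = w * k := by
          have hc' : Commute w (u * k) := by rw [hw]; exact (Commute.refl _).pow_left j
          have h1 : w * k = w * (u * (u * k)) := by rw [← mul_assoc u, huu, one_mul]
          have h2 : k * w = u * ((u * k) * w) := by
            rw [← mul_assoc, ← mul_assoc u, huu, one_mul]
          rw [h1, h2, ← hc'.eq, ← mul_assoc u, hcu, mul_assoc]
        have hcen : ∀ x : L, x * w = w * x → x ∈ Subgroup.centralizer ({w} : Set L) := fun x hx =>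
          Subgroup.mem_centralizer_singleton_iff.2 hx
        obtain ⟨g, hg⟩ := h.exists_conj_mem (Involution.orderOf_eq_two hww hw1)
        have key : ∀ x : L, x * w = w * x → g * x * g⁻¹ ∈ V := fun x hx => by
          rw [← h.centralizer_eq (by rw [Involution.orderOf_conj_eq]
                                     exact Involution.orderOf_eq_two hww hw1) hg]
          refine Subgroup.mem_centralizer_singleton_iff.2 ?_
          calc g * x * g⁻¹ * (g * w * g⁻¹) = g * (x * w) * g⁻¹ := by group
            _ = g * (w * x) * g⁻¹ := by rw [hx]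
            _ = _ := by group
        have := h.comm (key u hcu) (key k hck)
        rw [show g * u * g⁻¹ * (g * k * g⁻¹) = g * (u * k) * g⁻¹ by group,
          show g * k * g⁻¹ * (g * u * g⁻¹) = g * (k * u) * g⁻¹ by group] at this
        exact hc (mul_left_cancel (mul_right_cancel this))
      · rw [huu, orderOf_one]; exact odd_one
  have hrow : ∀ u ∈ I, (I.filter fun k => Odd (orderOf (u * k))).card + 2 = I.card := by
    intro u hu
    simp only [hI, Finset.mem_filter, Finset.mem_univ, true_and] at hu
    rw [← Finset.card_filter_add_card_filter_not (s := I) (fun k => Odd (orderOf (u * k)))]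
    congr 1
    have hset : (I.filter fun k => ¬ Odd (orderOf (u * k))) =
        (Finset.univ.filter fun k => k ∈ Subgroup.centralizer ({u} : Set L)) \ {1, u} := by
      ext k
      simp only [hI, Finset.mem_filter, Finset.mem_univ, true_and, Finset.mem_sdiff,
        Finset.mem_insert, Finset.mem_singleton, Subgroup.mem_centralizer_singleton_iff]
      constructor
      · rintro ⟨hk, hno⟩
        rw [hodd u k hu hk] at hno
        push Not at hno
        exact ⟨hno.1.symm, fun hk' => hk'.elim (Involution.ne_one hk) fun e => hno.2 e.symm⟩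
      · rintro ⟨hk, hk1⟩
        push Not at hk1
        have hk2 : orderOf k = 2 := by
          have hd4 : k ∈ Subgroup.centralizer ({u} : Set L) :=
            Subgroup.mem_centralizer_singleton_iff.2 hk
          obtain ⟨g, hg⟩ := h.exists_conj_mem hu
          have hm : g * k * g⁻¹ ∈ V := by
            rw [← h.centralizer_eq (by rw [Involution.orderOf_conj_eq]; exact hu) hg]
            refine Subgroup.mem_centralizer_singleton_iff.2 ?_
            calc g * k * g⁻¹ * (g * u * g⁻¹) = g * (k * u) * g⁻¹ := by group
              _ = g * (u * k) * g⁻¹ := by rw [hk]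
              _ = _ := by group
          rw [← Involution.orderOf_conj_eq g k]
          exact Involution.orderOf_eq_two (h.exp _ hm) fun e => hk1.1 (conj_eq_one_iff.1 e)
        refine ⟨hk2, ?_⟩
        rw [hodd u k hu hk2]
        push Not
        exact ⟨hk.symm, fun e => hk1.2 e.symm⟩
    rw [hset, Finset.card_sdiff_of_subset (fun x hx => by
      simp only [Finset.mem_insert, Finset.mem_singleton] at hx
      simp only [Finset.mem_filter, Finset.mem_univ, true_and]
      rcases hx with rfl | rfl
      · exact one_mem _
      · exact Subgroup.mem_centralizer_singleton_iff.2 rfl),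
      Finset.card_pair (Involution.ne_one hu).symm, ← Fintype.card_subtype,
      ← Nat.card_eq_fintype_card, h.cent u hu]
  rw [hIc, Nat.card_eq_fintype_card, Fintype.card_subtype]
  rw [show (Finset.univ.filter fun p : L × L =>
      orderOf p.1 = 2 ∧ orderOf p.2 = 2 ∧ Odd (orderOf (p.1 * p.2))) =
      (I ×ˢ I).filter fun p => Odd (orderOf (p.1 * p.2)) by
    ext p; simp [hI, and_assoc]]
  rw [Finset.card_filter, Finset.sum_product]
  rw [Finset.sum_congr rfl fun u hu => ((Finset.card_filter _ _).symm.trans
    (by have := hrow u hu; omega : (I.filter fun k => Odd (orderOf (u * k))).card = I.card - 2))]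
  rw [Finset.sum_const, smul_eq_mul]

end FourHyp

end Cfsg.Agent.Lib.MTwelveInv
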