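import Cfsg.Agent.Lib.MTwelveInv.Fusion
import Cfsg.Agent.Lib.MTwelveInv.Four

/-!
The centraliser of the second class of involutions has order 16, 48 or 240.
-/

set_option autoImplicit false
set_option maxRecDepth 20000

namespace Cfsg.Agent.Lib.MTwelveInv

variable {G : Type*} [Group G] [Finite G]

theorem four_facts :
    (∀ i < 192, commT bI i = true → commT dI i = true → inV i = true ∨ inV (mulT bI i) = true) ∧
    (∀ i < 192, commT bI i = true → commT dI i = true ∨ commT dI (mulT wI i) = true) ∧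
    (∀ i < 192, inV i = true → commT bI i = true ∧ commT dI i = true ∧ halfMask.testBit i = true) ∧
    cntI (fun i => commT bI i && commT dI i) = 8 ∧ cntI inV = 4 ∧ commT dI wI = false ∧
    commT dI 1 = true := by
  have h := four_check
  simp only [Bool.and_eq_true, beq_true_iff, Bool.not_eq_true'] at h
  obtain ⟨⟨⟨⟨⟨⟨h1, h2⟩, h3⟩, h4⟩, h5⟩, h6⟩, h7⟩ := h
  refine ⟨fun i hi hb hd => ?_, fun i hi hb => ?_, fun i hi hv => ?_, h4, h5, h6, h7⟩
  · simpa [hb, hd] using allI_spec h1 hi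
  · simpa [hb] using allI_spec h2 hi
  · simpa [hv, and_assoc] using allI_spec h3 hi

theorem centB_facts :
    (∀ i < 192, commT bI i = true → mulT i i < 2 ∧ cls i ≠ 2 ∧
      (cls i = 4 → i = dI ∨ i = mulT dI 1)) ∧
    commT bI dI = true ∧ commT bI wI = true ∧
    ∃ w < 192, commT bI w = true ∧ mulT w w = 1 := by
  have h := centB_check
  simp only [Bool.and_eq_true, List.any_eq_true, List.mem_range, beq_true_iff] at h
  obtain ⟨⟨⟨hall, h1⟩, h2⟩, w, hw, hwb, hw2⟩ := h
  refine ⟨fun i hi hb => ?_, h1, h2, w, hw, hwb, hw2⟩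
  have := allI_spec hall hi
  simp only [hb, Bool.not_true, Bool.false_or, Bool.and_eq_true, Nat.blt_eq, Bool.not_eq_true',
    beq_false_iff, Bool.or_eq_true, beq_true_iff] at this
  exact ⟨this.1.1, this.1.2, fun e => by
    rcases this.2 with (h' | h') | h'
    · exact absurd e h'
    · exact Or.inl h'
    · exact Or.inr h'⟩

namespace Hyp

variable (H : Hyp G)
include H

/-- The centraliser of `b`. -/
noncomputable def Cb : Subgroup G := Subgroup.centralizer ({H.b} : Set G)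

theorem mem_Cb {x : G} : x ∈ H.Cb ↔ x * H.b = H.b * x := Subgroup.mem_centralizer_singleton_iff

theorem f_mem_Cb {i : ℕ} (hi : i < 192) (h : commT bI i = true) : H.f i ∈ H.Cb :=
  H.mem_Cb.2 ((H.table.commute_iff rep_lt.2.1 hi).2 h).eq.symm

/-- An indexed element of the centraliser of `b`. -/
noncomputable def kEl (i : ℕ) : ↥H.Cb :=
  if h : i < 192 ∧ commT bI i = true then ⟨H.f i, H.f_mem_Cb h.1 h.2⟩ else 1

theorem coe_kEl {i : ℕ} (hi : i < 192) (h : commT bI i = true) : (H.kEl i : G) = H.f i := by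
  rw [kEl, dif_pos ⟨hi, h⟩]

theorem comm_one : commT bI 1 = true :=
  (H.table.commute_iff rep_lt.2.1 (by norm_num)).1 (by
    rw [H.table.inv_eq]; exact H.table.commute_t rep_lt.2.1)

theorem comm_self : commT bI bI = true :=
  (H.table.commute_iff rep_lt.2.1 rep_lt.2.1).1 (Commute.refl _)

/-- `b` in its centraliser. -/
noncomputable def bK : ↥H.Cb := H.kEl bI

/-- `t` in the centraliser of `b`. -/
noncomputable def tK : ↥H.Cb := H.kEl 1

/-- The class 4 representative in the centraliser of `b`. -/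
noncomputable def dK : ↥H.Cb := H.kEl dI

theorem coe_bK : (H.bK : G) = H.b := H.coe_kEl rep_lt.2.1 H.comm_self

theorem coe_tK : (H.tK : G) = H.t := (H.coe_kEl (by norm_num) H.comm_one).trans H.table.inv_eq

theorem coe_dK : (H.dK : G) = H.d := H.coe_kEl rep_lt.2.2.1 centB_facts.2.1

theorem bK_comm (x : ↥H.Cb) : x * H.bK = H.bK * x :=
  Subtype.ext (by rw [Subgroup.coe_mul, Subgroup.coe_mul, coe_bK]; exact H.mem_Cb.1 x.2)

theorem bK_sq : H.bK * H.bK = 1 := Subtype.ext (by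
  rw [Subgroup.coe_mul, coe_bK, Subgroup.coe_one]
  exact Involution.mul_self_eq_one (H.table.orderOf_eq_two rep_lt.2.1 (by rw [rep_cls.2.1]; norm_num)))

/-- The Sylow 2-subgroup of the centraliser of `b`. -/
noncomputable def W : Subgroup ↥H.Cb := Subgroup.centralizer ({H.tK} : Set ↥H.Cb)

theorem mem_W {x : ↥H.Cb} :
    x ∈ H.W ↔ ∃ i < 192, commT bI i = true ∧ H.f i = (x : G) := by
  rw [W, Subgroup.mem_centralizer_singleton_iff]
  constructor
  · intro h
    have h' : (x : G) * H.t = H.t * x := by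
      have := congrArg Subtype.val h
      rwa [Subgroup.coe_mul, Subgroup.coe_mul, coe_tK] at this
    obtain ⟨i, hi, hx⟩ := (H.table.range _).1 h'
    refine ⟨i, hi, (H.table.commute_iff rep_lt.2.1 hi).1 ?_, hx⟩
    rw [hx]
    exact (H.mem_Cb.1 x.2).symm
  · rintro ⟨i, hi, -, hx⟩
    refine Subtype.ext ?_
    rw [Subgroup.coe_mul, Subgroup.coe_mul, coe_tK, ← hx]
    exact H.table.commute_t hi

theorem kEl_mem_W {i : ℕ} (hi : i < 192) (h : commT bI i = true) : H.kEl i ∈ H.W :=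
  H.mem_W.2 ⟨i, hi, h, (H.coe_kEl hi h).symm⟩

theorem tK_mem : H.tK ∈ H.W := H.kEl_mem_W (by norm_num) H.comm_one
theorem bK_mem : H.bK ∈ H.W := H.kEl_mem_W rep_lt.2.1 H.comm_self
theorem dK_mem : H.dK ∈ H.W := H.kEl_mem_W rep_lt.2.2.1 centB_facts.2.1

/-- Counting elements of a subgroup of `W` by indices. -/
theorem card_of_le_W (S : Subgroup ↥H.Cb) (hS : S ≤ H.W) (q : ℕ → Bool)
    (hq : ∀ i < 192, q i = true ↔ (commT bI i = true ∧ H.kEl i ∈ S)) :
    Nat.card S = cntI q := by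
  rw [← H.table.card_subtype (fun y : G => ∃ s : S, ((s : ↥H.Cb) : G) = y) q ?_ ?_]
  · refine Nat.card_eq_of_bijective (fun s => ⟨((s : ↥H.Cb) : G), s, rfl⟩) ⟨?_, ?_⟩
    · intro a b hab
      exact Subtype.ext (Subtype.ext (Subtype.mk.inj hab))
    · rintro ⟨y, s, hs⟩
      exact ⟨s, Subtype.ext hs⟩
  · intro i hi
    rw [hq i hi]
    constructor
    · rintro ⟨s, hs⟩
      obtain ⟨j, hj, hjb, hjs⟩ := H.mem_W.1 (hS s.2)
      obtain rfl : j = i := H.table.inj j hj i hi (hjs.trans hs)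
      refine ⟨hjb, ?_⟩
      rw [show H.kEl j = (s : ↥H.Cb) from Subtype.ext ((H.coe_kEl hj hjb).trans hs.symm)]
      exact s.2
    · rintro ⟨hb, hm⟩
      exact ⟨⟨H.kEl i, hm⟩, H.coe_kEl hi hb⟩
  · rintro y ⟨s, rfl⟩
    obtain ⟨j, hj, -, hjs⟩ := H.mem_W.1 (hS s.2)
    rw [← hjs]
    exact H.table.commute_t hj

theorem card_W : Nat.card H.W = 16 := by
  rw [H.card_of_le_W H.W le_rfl (commT bI)
    fun i hi => ⟨fun h => ⟨h, H.kEl_mem_W hi h⟩, fun h => h.1⟩]
  exact (H.cent_count rep_lt.2.1).2.1 rep_cls.2.1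

theorem odd_W_index : Odd H.W.index := by
  refine odd_index_of_normalizer H.W (IsPGroup.of_card (n := 4) (by rw [H.card_W]; norm_num))
    fun Q _ _ n _ hnorm => ?_
  obtain ⟨hcent, -, -, w, hw, hwb, hw2⟩ := centB_facts
  set v := n * H.kEl w * n⁻¹ with hv
  obtain ⟨j, hj, hjb, hjv⟩ := H.mem_W.1 (hnorm _ (H.kEl_mem_W hw hwb))
  have hsq : H.kEl w * H.kEl w = H.tK := Subtype.ext (by
    rw [Subgroup.coe_mul, H.coe_kEl hw hwb, ← H.table.mul w hw w hw, hw2, coe_tK, H.table.inv_eq])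
  have hvv : v * v = n * H.tK * n⁻¹ := by
    rw [hv, ← hsq]; group
  have hne : v * v ≠ 1 := by
    rw [hvv]
    intro e
    have := congrArg Subtype.val (conj_eq_one_iff.1 e)
    rw [coe_tK, Subgroup.coe_one] at this
    exact Involution.ne_one H.ht this
  have hvt : v * v = H.tK := by
    have hjj : mulT j j = 0 ∨ mulT j j = 1 := by have := (hcent j hj hjb).1; omega
    refine Subtype.ext ?_
    rw [Subgroup.coe_mul, ← hjv, ← H.table.mul j hj j hj, coe_tK]
    rcases hjj with e | e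
    · exfalso
      refine hne (Subtype.ext ?_)
      rw [Subgroup.coe_mul, ← hjv, ← H.table.mul j hj j hj, e, H.table.one, Subgroup.coe_one]
    · rw [e, H.table.inv_eq]
  rw [W, Subgroup.mem_centralizer_singleton_iff]
  exact mul_inv_eq_iff_eq_mul.1 (hvv.symm.trans hvt)

/-- In `W` the conjugates of `t` are the involutions of `{1, t, d, dt}`. -/
theorem inV_of_isConj {i : ℕ} (hi : i < 192) (hb : commT bI i = true)
    (hc : IsConj H.t (H.f i)) : inV i = true := by
  have ho : orderOf (H.f i) = 2 := (Involution.isConj_orderOf hc).trans H.ht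
  have hi0 : cls i ≠ 0 := (cls_ne_zero_iff hi).2
    ⟨fun e => Involution.ne_one ho (by rw [e, H.table.one]),
      (H.table.mul_self_eq_one_iff hi).1 (Involution.mul_self_eq_one ho)⟩
  obtain ⟨-, h2, h4⟩ := centB_facts.1 i hi hb
  rcases H.cls_cases hi hi0 with e | e | e | e
  · rw [(cls_eq_one_iff hi).1 e]; simp [inV, beq_true_iff]
  · exact absurd e h2
  · exact absurd ((H.conj_class hi hi0).2.1 e) fun h => H.not_both hc h
  · rcases h4 e with rfl | rfl <;> simp [inV, beq_true_iff]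

theorem inV_spec {i : ℕ} (hv : inV i = true) : i < 192 ∧ (i = 0 ∨ IsConj H.t (H.f i)) := by
  simp only [inV, Bool.or_eq_true, beq_true_iff] at hv
  have hd := rep_lt.2.2.1
  have hdz := mulT_lt hd (by norm_num : 1 < 192)
  rcases hv with ((rfl | rfl) | rfl) | rfl
  · exact ⟨by norm_num, Or.inl rfl⟩
  · exact ⟨by norm_num, Or.inr (by rw [H.table.inv_eq])⟩
  · exact ⟨hd, Or.inr ((H.conj_class hd (by rw [rep_cls.2.2.1]; norm_num)).1 (Or.inr rep_cls.2.2.1))⟩
  · exact ⟨hdz, Or.inr ((H.conj_class hdz (by rw [rep_cls.2.2.2.2.2.1]; norm_num)).1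
      (Or.inr rep_cls.2.2.2.2.2.1))⟩

theorem isConj_coe {x y : ↥H.Cb} (h : IsConj x y) : IsConj (x : G) (y : G) :=
  MonoidHom.map_isConj H.Cb.subtype h

theorem exists_conj_W {x : ↥H.Cb} (hx : orderOf x = 2) : ∃ g : ↥H.Cb, g * x * g⁻¹ ∈ H.W := by
  have : Fact (Nat.Prime 2) := ⟨Nat.prime_two⟩
  have hp : IsPGroup 2 (Subgroup.zpowers x) :=
    IsPGroup.of_card (n := 1) (by rw [Nat.card_zpowers, hx, pow_one])
  obtain ⟨Q, hQ⟩ := hp.exists_le_sylow
  let S : Sylow 2 ↥H.Cb := (IsPGroup.of_card (n := 4) (by rw [H.card_W]; norm_num) :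
    IsPGroup 2 H.W).toSylow (by rw [← even_iff_two_dvd, Nat.not_even_iff_odd]; exact H.odd_W_index)
  obtain ⟨g, hg⟩ := MulAction.exists_smul_eq ↥H.Cb Q S
  refine ⟨g, ?_⟩
  show g * x * g⁻¹ ∈ (S : Subgroup ↥H.Cb)
  rw [← hg]
  exact Subgroup.mem_map.2 ⟨x, hQ (Subgroup.mem_zpowers x), rfl⟩

/-- The centraliser in `Cb` of a conjugate of `t` has order a power of two. -/
theorem cent_two_power {v : ↥H.Cb} (hv : IsConj H.t (v : G)) :
    ∃ k, Nat.card (Subgroup.centralizer ({v} : Set ↥H.Cb)) = 2 ^ k := by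
  obtain ⟨g, hg⟩ := isConj_iff.1 hv.symm
  have hvb : (v : G) * H.b = H.b * v := H.mem_Cb.1 v.2
  set y := g * H.b * g⁻¹ with hy
  have hbo : orderOf H.b = 2 := H.table.orderOf_eq_two rep_lt.2.1 (by rw [rep_cls.2.1]; norm_num)
  have hyo : orderOf y = 2 := by rw [hy, Involution.orderOf_conj_eq]; exact hbo
  have hyt : y * H.t = H.t * y := by
    rw [hy, ← hg]
    exact (conj_comm_iff g H.b v).2 hvb.symm
  obtain ⟨i, hi, hi0, hiy⟩ := H.table.exists_index_of_involution (Involution.mul_self_eq_one hyo)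
    (Involution.ne_one hyo) hyt
  have hcard : Nat.card (Subgroup.centralizer ({v} : Set ↥H.Cb)) = cntI (commT i) := by
    rw [← H.card_pair_cent hi]
    refine Nat.card_eq_of_bijective (fun x =>
      ⟨g * ((x : ↥H.Cb) : G) * g⁻¹, ?_, ?_⟩) ⟨?_, ?_⟩
    · rw [hiy, hy, conj_comm_iff]; exact H.mem_Cb.1 (x : ↥H.Cb).2
    · rw [← hg, conj_comm_iff]
      exact congrArg Subtype.val (Subgroup.mem_centralizer_singleton_iff.1 x.2)
    · intro a b hab
      exact Subtype.ext (Subtype.ext (mul_left_cancel (mul_right_cancel (Subtype.mk.inj hab))))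
    · rintro ⟨y', h1, h2⟩
      have e : g * (g⁻¹ * y' * g) * g⁻¹ = y' := by group
      rw [hiy, hy, ← e, conj_comm_iff] at h1
      rw [← hg, ← e, conj_comm_iff] at h2
      exact ⟨⟨⟨g⁻¹ * y' * g, H.mem_Cb.2 h1⟩,
        Subgroup.mem_centralizer_singleton_iff.2 (Subtype.ext h2)⟩, Subtype.ext e⟩
  rw [hcard]
  obtain ⟨c2, c3, c4⟩ := H.cent_count hi
  rcases H.cls_cases hi hi0 with e | e | e | e
  · exfalso
    refine H.b_not_conj ?_
    rw [(cls_eq_one_iff hi).1 e, H.table.inv_eq] at hiy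
    rw [hiy, hy]
    exact (isConj_iff.2 ⟨g, rfl⟩ : IsConj H.b _).symm
  · exact ⟨3, c2 e⟩
  · exact ⟨4, c3 e⟩
  · exact ⟨5, c4 e⟩

/-- A normal subgroup of index four of `Cb` meeting `W` in `{1, t, d, dt}`. -/
theorem exists_M : ∃ M : Subgroup ↥H.Cb, M.Normal ∧ M.index = 4 ∧ (∀ x, x * x ∈ M) ∧
    H.bK ∉ M ∧ ∀ i < 192, commT bI i = true → (H.kEl i ∈ M ↔ inV i = true) := by
  obtain ⟨hf1, hf2, hf3, hcnt8, -, hdw, hd1⟩ := four_facts
  obtain ⟨hcent, hbd, hbw, -⟩ := centB_facts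
  have hh := half_check
  simp only [Bool.and_eq_true, Bool.not_eq_true', beq_true_iff] at hh
  obtain ⟨⟨⟨⟨⟨⟨⟨hclosed, hhcnt⟩, hh0⟩, -⟩, -⟩, -⟩, hhb⟩, hhsub⟩ := hh
  set T := H.table.subgroupOfMask halfMask hclosed hh0
  set T1 := T.subgroupOf H.Cb with hT1d
  have hTb : ∀ i < 192, halfMask.testBit i = true → commT bI i = true := fun i hi hb => by
    simpa [hb] using allI_spec hhsub hi
  have hT1 : T1 ≤ H.W := fun x hx => by
    obtain ⟨i, hi, hb, hix⟩ := Subgroup.mem_subgroupOf.1 hx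
    exact H.mem_W.2 ⟨i, hi, hTb i hi hb, hix⟩
  have hT1c : 2 * Nat.card T1 = Nat.card H.W := by
    rw [H.card_W, H.card_of_le_W T1 hT1 (Nat.testBit halfMask) fun i hi => ?_, hhcnt]
    constructor
    · intro hb
      refine ⟨hTb i hi hb, Subgroup.mem_subgroupOf.2 ?_⟩
      rw [H.coe_kEl hi (hTb i hi hb)]
      exact ⟨i, hi, hb, rfl⟩
    · rintro ⟨hb, hm⟩
      rw [Subgroup.mem_subgroupOf, H.coe_kEl hi hb] at hm
      exact (H.table.mem_subgroupOfMask_index hi).1 hm
  obtain ⟨χ, hχ1, hχ2⟩ := exists_sign_hom H.W T1 H.odd_W_index hT1 hT1c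
  have hχb : χ H.bK ≠ 1 := hχ2 _ H.bK_sq fun g hg => by
    rw [H.bK_comm g, mul_inv_cancel_right, Subgroup.mem_subgroupOf, coe_bK]
    intro hm
    have := (H.table.mem_subgroupOfMask_index rep_lt.2.1).1 hm
    rw [hhb] at this; simp at this
  -- conjugates of `t` are killed
  have hT2le : ∀ x : ↥H.Cb, (x = 1 ∨ IsConj H.t (x : G)) → x ∈ H.W →
      x ∈ T1 ∧ x * H.dK = H.dK * x := by
    intro x hx hxW
    obtain ⟨i, hi, hib, hix⟩ := H.mem_W.1 hxW
    have hiv : inV i = true := by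
      rcases hx with rfl | hx
      · rw [H.table.inj i hi 0 (by norm_num) (hix.trans H.table.one.symm)]; simp [inV, beq_true_iff]
      · exact H.inV_of_isConj hi hib (hix ▸ hx)
    obtain ⟨-, hid, hih⟩ := hf3 i hi hiv
    refine ⟨Subgroup.mem_subgroupOf.2 ⟨i, hi, hih, hix⟩, Subtype.ext ?_⟩
    rw [Subgroup.coe_mul, Subgroup.coe_mul, coe_dK, ← hix]
    exact ((H.table.commute_iff rep_lt.2.2.1 hi).2 hid).eq.symm
  have hZkill : ∀ x : ↥H.Cb, (x = 1 ∨ IsConj H.t (x : G)) → χ x = 1 := by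
    intro x hx
    rcases hx with rfl | hx
    · exact map_one χ
    · refine hχ1 x (Subtype.ext ?_) fun g hg => (hT2le _ (Or.inr ?_) hg).1
      · rw [Subgroup.coe_mul, Subgroup.coe_one]
        exact Involution.mul_self_eq_one ((Involution.isConj_orderOf hx).trans H.ht)
      · exact hx.trans (H.isConj_coe (isConj_iff.2 ⟨g, rfl⟩))
  set T2 := H.W ⊓ Subgroup.centralizer ({H.dK} : Set ↥H.Cb)
  have hmemT2 : ∀ i, i < 192 → commT bI i = true → (H.kEl i ∈ T2 ↔ commT dI i = true) := by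
    intro i hi hb
    rw [Subgroup.mem_inf, and_iff_right (H.kEl_mem_W hi hb), Subgroup.mem_centralizer_singleton_iff,
      ← H.table.commute_iff rep_lt.2.2.1 hi]
    constructor
    · intro h
      have := congrArg Subtype.val h
      rw [Subgroup.coe_mul, Subgroup.coe_mul, H.coe_kEl hi hb, coe_dK] at this
      exact this.symm
    · intro h
      refine Subtype.ext ?_
      rw [Subgroup.coe_mul, Subgroup.coe_mul, H.coe_kEl hi hb, coe_dK]
      exact h.eq.symm
  have hT2c : 2 * Nat.card T2 = Nat.card H.W := by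
    rw [H.card_W, H.card_of_le_W T2 inf_le_left (fun i => commT bI i && commT dI i) fun i hi => ?_,
      hcnt8]
    rw [Bool.and_eq_true]
    exact ⟨fun h => ⟨h.1, (hmemT2 i hi h.1).2 h.2⟩, fun h => ⟨h.1, (hmemT2 i hi h.1).1 h.2⟩⟩
  -- the elements of `T2` killed by `χ`
  have hT2χ : ∀ x ∈ T2, χ x = 1 → x = 1 ∨ IsConj H.t (x : G) := by
    intro x hx hχx
    obtain ⟨i, hi, hib, hix⟩ := H.mem_W.1 hx.1
    have hxi : x = H.kEl i := Subtype.ext ((H.coe_kEl hi hib).trans hix).symm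
    have hid := (hmemT2 i hi hib).1 (hxi ▸ hx)
    rcases hf1 i hi hib hid with hv | hv
    · obtain ⟨-, h0 | hc⟩ := H.inV_spec hv
      · left
        refine Subtype.ext ?_
        rw [← hix, h0, H.table.one, Subgroup.coe_one]
      · exact Or.inr (hix ▸ hc)
    · exfalso
      refine hχb ?_
      have hbx : χ (H.bK * x) = 1 := by
        refine hZkill _ ?_
        have hco : ((H.bK * x : ↥H.Cb) : G) = H.f (mulT bI i) := by
          rw [Subgroup.coe_mul, coe_bK, ← hix, H.table.mul bI rep_lt.2.1 i hi]; rfl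
        obtain ⟨-, h0 | hc⟩ := H.inV_spec hv
        · left
          refine Subtype.ext ?_
          rw [hco, h0, H.table.one, Subgroup.coe_one]
        · exact Or.inr (hco ▸ hc)
      rwa [map_mul, hχx, mul_one] at hbx
  -- an involution outside `T2` killed by `χ`
  set wK := H.kEl wI with hwKd
  have hwI := rep_lt.2.2.2.2
  have hwK2 : wK * wK = 1 := Subtype.ext (by
    rw [Subgroup.coe_mul, H.coe_kEl hwI hbw, Subgroup.coe_one]
    exact Involution.mul_self_eq_one
      (H.table.orderOf_eq_two hwI (by rw [rep_cls.2.2.2.2.1]; norm_num)))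
  have hwT2 : wK ∉ T2 := fun h => by
    have := (hmemT2 wI hwI hbw).1 h
    rw [hdw] at this; simp at this
  have hbT2 : H.bK ∈ T2 := ⟨H.bK_mem, Subgroup.mem_centralizer_singleton_iff.2 (H.bK_comm H.dK).symm⟩
  obtain ⟨w0, hw0W, hw0sq, hw0T2, hw0χ, hw0cover⟩ : ∃ w0 ∈ H.W, w0 * w0 = 1 ∧ w0 ∉ T2 ∧ χ w0 = 1 ∧
      ∀ x ∈ H.W, x ∈ T2 ∨ w0 * x ∈ T2 := by
    have hcover : ∀ x ∈ H.W, x ∈ T2 ∨ wK * x ∈ T2 := by
      intro x hx
      obtain ⟨i, hi, hib, hix⟩ := H.mem_W.1 hx
      have hxi : x = H.kEl i := Subtype.ext ((H.coe_kEl hi hib).trans hix).symm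
      rcases hf2 i hi hib with h | h
      · exact Or.inl (hxi ▸ (hmemT2 i hi hib).2 h)
      · have hm : wK * x ∈ H.W := H.W.mul_mem (H.kEl_mem_W hwI hbw) hx
        obtain ⟨j, hj, hjb, hjx⟩ := H.mem_W.1 hm
        have hji : j = mulT wI i := H.table.inj j hj _ (mulT_lt hwI hi) (by
          rw [hjx, Subgroup.coe_mul, H.coe_kEl hwI hbw, ← hix, H.table.mul wI hwI i hi])
        right
        rw [show wK * x = H.kEl j from Subtype.ext ((H.coe_kEl hj hjb).trans hjx).symm]
        exact (hmemT2 j hj hjb).2 (hji ▸ h)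
    by_cases hc : χ wK = 1
    · exact ⟨wK, H.kEl_mem_W hwI hbw, hwK2, hwT2, hc, hcover⟩
    · refine ⟨H.bK * wK, H.W.mul_mem H.bK_mem (H.kEl_mem_W hwI hbw), ?_, fun h => hwT2 ?_, ?_,
        fun x hx => ?_⟩
      · calc H.bK * wK * (H.bK * wK) = H.bK * (wK * H.bK) * wK := by group
          _ = H.bK * H.bK * (wK * wK) := by rw [H.bK_comm wK]; group
          _ = 1 := by rw [H.bK_sq, hwK2, one_mul]
      · simpa [← mul_assoc, H.bK_sq] using T2.mul_mem hbT2 h
      · have key : ∀ a c : Multiplicative (ZMod 2), a ≠ 1 → c ≠ 1 → a * c = 1 := by decide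
        rw [map_mul]; exact key _ _ hχb hc
      · exact (hcover x hx).imp id fun h => by rw [mul_assoc]; exact T2.mul_mem hbT2 h
  obtain ⟨ψ, hψ1, hψ2⟩ := exists_sign_hom H.W T2 H.odd_W_index inf_le_left hT2c
  have hχconj : ∀ g x : ↥H.Cb, χ (g * x * g⁻¹) = χ x := fun g x => by
    rw [map_mul, map_mul, map_inv, mul_comm (χ g), mul_inv_cancel_right]
  have hψw : ψ w0 ≠ 1 := hψ2 _ hw0sq fun g hg hgT => by
    rcases hT2χ _ hgT (by rw [hχconj, hw0χ]) with h | h
    · rw [conj_eq_one_iff] at h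
      exact hw0T2 (h ▸ T2.one_mem)
    · have hwc : IsConj H.t (w0 : G) := h.trans (H.isConj_coe (isConj_iff.2 ⟨g, rfl⟩)).symm
      exact hw0T2 ⟨hw0W, Subgroup.mem_centralizer_singleton_iff.2 (hT2le w0 (Or.inr hwc) hw0W).2⟩
  have hψkill : ∀ x : ↥H.Cb, (x = 1 ∨ IsConj H.t (x : G)) → ψ x = 1 := by
    intro x hx
    rcases hx with rfl | hx
    · exact map_one ψ
    · refine hψ1 x (Subtype.ext ?_) fun g hg => ⟨hg, Subgroup.mem_centralizer_singleton_iff.2
        (hT2le _ (Or.inr ?_) hg).2⟩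
      · rw [Subgroup.coe_mul, Subgroup.coe_one]
        exact Involution.mul_self_eq_one ((Involution.isConj_orderOf hx).trans H.ht)
      · exact hx.trans (H.isConj_coe (isConj_iff.2 ⟨g, rfl⟩))
  have hsq : ∀ a : Multiplicative (ZMod 2), a * a = 1 := by decide
  refine ⟨(χ.prod ψ).ker, inferInstance, ?_, fun x => ?_, fun h => hχb ?_, fun i hi hb => ?_⟩
  · have hrange : (χ.prod ψ).range = ⊤ := by
      rw [eq_top_iff]
      rintro ⟨a, c⟩ -
      have key : ∀ (a c p : Multiplicative (ZMod 2)) (q r : Multiplicative (ZMod 2)), p ≠ 1 → r ≠ 1 →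
          (a = 1 ∧ c = 1) ∨ (a = p ∧ c = q) ∨ (a = 1 ∧ c = r) ∨ (a = p ∧ c = q * r) := by
        have two : ∀ x : Multiplicative (ZMod 2), x = 1 ∨ x = Multiplicative.ofAdd 1 := by decide
        intro a c p q r hp hr
        rcases two p with rfl | rfl
        · exact absurd rfl hp
        rcases two r with rfl | rfl
        · exact absurd rfl hr
        rcases two a with rfl | rfl <;> rcases two c with rfl | rfl <;> rcases two q with rfl | rfl <;>
          decide
      rcases key a c (χ H.bK) (ψ H.bK) (ψ w0) hχb hψw with ⟨rfl, rfl⟩ | ⟨rfl, rfl⟩ | ⟨rfl, rfl⟩ | ⟨rfl, rfl⟩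
      · exact one_mem _
      · exact ⟨H.bK, rfl⟩
      · exact ⟨w0, Prod.ext hw0χ rfl⟩
      · exact ⟨H.bK * w0, Prod.ext (by simp [hw0χ]) (by simp)⟩
    rw [Subgroup.index_ker, hrange, Subgroup.card_top, Nat.card_prod]
    simp
  · rw [MonoidHom.mem_ker, map_mul]
    exact Prod.ext (hsq _) (hsq _)
  · exact congrArg Prod.fst (MonoidHom.mem_ker.1 h)
  · rw [MonoidHom.mem_ker]
    constructor
    · intro h
      have h1 : χ (H.kEl i) = 1 := congrArg Prod.fst h
      have h2 : ψ (H.kEl i) = 1 := congrArg Prod.snd h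
      rcases hw0cover _ (H.kEl_mem_W hi hb) with hT | hT
      · rcases hT2χ _ hT h1 with e | e
        · have := congrArg Subtype.val e
          rw [H.coe_kEl hi hb, Subgroup.coe_one] at this
          rw [H.table.inj i hi 0 (by norm_num) (this.trans H.table.one.symm)]
          simp [inV, beq_true_iff]
        · rw [H.coe_kEl hi hb] at e
          exact H.inV_of_isConj hi hb e
      · exfalso
        refine hψw ?_
        have h3 := hψkill _ (hT2χ _ hT (by rw [map_mul, hw0χ, h1, one_mul]))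
        rwa [map_mul, h2, mul_one] at h3
    · intro hv
      have hx : H.kEl i = 1 ∨ IsConj H.t ((H.kEl i : ↥H.Cb) : G) := by
        obtain ⟨-, h0 | hc⟩ := H.inV_spec hv
        · left
          refine Subtype.ext ?_
          rw [H.coe_kEl hi hb, h0, H.table.one, Subgroup.coe_one]
        · exact Or.inr (by rw [H.coe_kEl hi hb]; exact hc)
      exact Prod.ext (hZkill _ hx) (hψkill _ hx)

/-- The order of the centraliser of `b` and the number of pairs defining it. -/
theorem cb_data : ∃ m, (m = 4 ∨ m = 12 ∨ m = 60) ∧ Nat.card H.Cb = 4 * m ∧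
    Nat.card {p : G × G // IsConj H.t p.1 ∧ IsConj H.b p.2 ∧ H.b ∈ Subgroup.zpowers (p.1 * p.2)} =
      (if m = 60 then 195 else 3) := by
  obtain ⟨M, hMn, hMi, hMsq, hbM, hMV⟩ := H.exists_M
  obtain ⟨-, -, hf3, -, hcnt4, -, -⟩ := four_facts
  set V := H.W ⊓ M
  have hVc : Nat.card V = 4 := by
    rw [H.card_of_le_W V inf_le_left inV fun i hi => ?_, hcnt4]
    constructor
    · intro hv
      have hb := (hf3 i hi hv).1
      exact ⟨hb, H.kEl_mem_W hi hb, (hMV i hi hb).2 hv⟩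
    · rintro ⟨hb, hm⟩
      exact (hMV i hi hb).1 hm.2
  have hVelem : ∀ x ∈ V, x = 1 ∨ IsConj H.t (x : G) := by
    rintro x ⟨hxW, hxM⟩
    obtain ⟨i, hi, hb, hix⟩ := H.mem_W.1 hxW
    have hxi : x = H.kEl i := Subtype.ext ((H.coe_kEl hi hb).trans hix).symm
    obtain ⟨-, h0 | hc⟩ := H.inV_spec ((hMV i hi hb).1 (hxi ▸ hxM))
    · left
      refine Subtype.ext ?_
      rw [← hix, h0, H.table.one, Subgroup.coe_one]
    · exact Or.inr (hix ▸ hc)
  have hVexp : ∀ x ∈ V, x * x = 1 := by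
    intro x hx
    rcases hVelem x hx with rfl | hc
    · rw [one_mul]
    · refine Subtype.ext ?_
      rw [Subgroup.coe_mul, Subgroup.coe_one]
      exact Involution.mul_self_eq_one ((Involution.isConj_orderOf hc).trans H.ht)
  obtain ⟨c, hc, hodd⟩ : ∃ c, Nat.card H.Cb = 16 * c ∧ Odd c := ⟨H.W.index,
    by rw [← H.card_W, Subgroup.card_mul_index], H.odd_W_index⟩
  have hMc : Nat.card M = 4 * c := by
    have := M.card_mul_index
    rw [hMi, hc] at this; omega
  have hinvM : ∀ x : ↥H.Cb, orderOf x = 2 → (x ∈ M ↔ IsConj H.t (x : G)) := by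
    intro x hx
    obtain ⟨g, hg⟩ := H.exists_conj_W hx
    have hconj : IsConj ((x : ↥H.Cb) : G) ((g * x * g⁻¹ : ↥H.Cb) : G) :=
      H.isConj_coe (isConj_iff.2 ⟨g, rfl⟩)
    constructor
    · intro hxM
      rcases hVelem _ ⟨hg, hMn.conj_mem x hxM g⟩ with e | e
      · exact absurd (conj_eq_one_iff.1 e) (Involution.ne_one hx)
      · exact e.trans hconj.symm
    · intro hxt
      obtain ⟨i, hi, hb, hix⟩ := H.mem_W.1 hg
      have hv := H.inV_of_isConj hi hb (hix ▸ hxt.trans hconj)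
      have hm : g * x * g⁻¹ ∈ M := by
        rw [show g * x * g⁻¹ = H.kEl i from Subtype.ext ((H.coe_kEl hi hb).trans hix).symm]
        exact (hMV i hi hb).2 hv
      have := hMn.conj_mem _ hm g⁻¹
      simpa [mul_assoc] using this
  set VM := V.subgroupOf M
  have hVMc : Nat.card VM = 4 := by
    rw [← hVc]; exact Nat.card_congr (Subgroup.subgroupOfEquivOfLe inf_le_right).toEquiv
  have hVMi : VM.index = c := by
    have := VM.card_mul_index
    rw [hVMc, hMc] at this; omega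
  have hcent : ∀ v : M, orderOf v = 2 → Nat.card (Subgroup.centralizer ({v} : Set M)) = 4 := by
    intro v hv
    have hvo : orderOf (v : ↥H.Cb) = 2 := by rw [Subgroup.orderOf_coe]; exact hv
    obtain ⟨k, hk⟩ := H.cent_two_power ((hinvM v hvo).1 v.2)
    -- upper bound
    have hmap : (Subgroup.centralizer ({v} : Set M)).map M.subtype ≤
        Subgroup.centralizer ({(v : ↥H.Cb)} : Set ↥H.Cb) ⊓ M := by
      rintro _ ⟨x, hx, rfl⟩
      exact ⟨Subgroup.mem_centralizer_singleton_iff.2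
        (congrArg Subtype.val (Subgroup.mem_centralizer_singleton_iff.1 hx)), x.2⟩
    have hd1 := Subgroup.card_dvd_of_le hmap
    rw [Subgroup.card_map_of_injective M.subtype_injective] at hd1
    have hd2 := hd1.trans (Subgroup.card_dvd_of_le (inf_le_left (b := M)))
    rw [hk] at hd2
    obtain ⟨j, -, hj⟩ := (Nat.dvd_prime_pow Nat.prime_two).1 hd2
    have hd3 := hd1.trans (Subgroup.card_dvd_of_le (inf_le_right (b := M)))
    rw [hMc, hj] at hd3
    have hj2 : j ≤ 2 := by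
      by_contra hlt
      have h8 : 2 ^ 3 ∣ 4 * c := (pow_dvd_pow 2 (by omega : 3 ≤ j)).trans hd3
      rw [Nat.odd_iff] at hodd
      omega
    -- lower bound
    obtain ⟨g, hg⟩ := H.exists_conj_W hvo
    have hgV : g * v * g⁻¹ ∈ V := ⟨hg, hMn.conj_mem _ v.2 g⟩
    let φ : ↥V → ↥(Subgroup.centralizer ({v} : Set M)) := fun x =>
      ⟨⟨g⁻¹ * (x : ↥H.Cb) * g, by simpa using hMn.conj_mem _ x.2.2 g⁻¹⟩,
        Subgroup.mem_centralizer_singleton_iff.2 (Subtype.ext (by
          show g⁻¹ * (x : ↥H.Cb) * g * v = v * (g⁻¹ * (x : ↥H.Cb) * g)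
          have hcomm : (x : ↥H.Cb) * (g * v * g⁻¹) = g * v * g⁻¹ * x := by
            have h1 := Involution.inv_eq_self (hVexp _ (V.mul_mem x.2 hgV))
            rw [mul_inv_rev, Involution.inv_eq_self (hVexp _ x.2),
              Involution.inv_eq_self (hVexp _ hgV)] at h1
            exact h1.symm
          calc g⁻¹ * (x : ↥H.Cb) * g * v = g⁻¹ * ((x : ↥H.Cb) * (g * v * g⁻¹)) * g := by group
            _ = g⁻¹ * (g * v * g⁻¹ * x) * g := by rw [hcomm]
            _ = _ := by group))⟩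
    have hlow := Nat.card_le_card_of_injective φ fun a b hab => Subtype.ext
      (mul_left_cancel (mul_right_cancel
        (congrArg (fun z : ↥(Subgroup.centralizer ({v} : Set M)) => ((z : M) : ↥H.Cb)) hab)))
    rw [hVc, hj] at hlow
    rw [hj]
    interval_cases j <;> omega
  have hfour : FourHyp VM :=
    { card_V := hVMc
      exp := fun x hx => Subtype.ext (hVexp _ (Subgroup.mem_subgroupOf.1 hx))
      odd_index := by rw [hVMi]; exact hodd
      cent := hcent }
  obtain ⟨hm, hn⟩ := hfour.card_involutions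
  refine ⟨Nat.card M, hm, ?_, ?_⟩
  · rw [hc, hMc]; ring
  have hpairs := hfour.card_odd_pairs
  rw [hn] at hpairs
  rw [show (if Nat.card M = 60 then 195 else 3) =
    (if Nat.card M = 60 then 15 else 3) * ((if Nat.card M = 60 then 15 else 3) - 2) by
      split_ifs <;> rfl, ← hpairs]
  -- the bijection `(u, v) ↦ (u, b v)`
  have hbG : orderOf H.b = 2 := H.table.orderOf_eq_two rep_lt.2.1 (by rw [rep_cls.2.1]; norm_num)
  have hbb := Involution.mul_self_eq_one hbG
  have hfwd : ∀ p : G × G, IsConj H.t p.1 → IsConj H.b p.2 → H.b ∈ Subgroup.zpowers (p.1 * p.2) →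
      ∃ q : M × M, orderOf q.1 = 2 ∧ orderOf q.2 = 2 ∧ Odd (orderOf (q.1 * q.2)) ∧
        p = (((q.1 : ↥H.Cb) : G), H.b * ((q.2 : ↥H.Cb) : G)) := by
    rintro ⟨u, v⟩ hu hv hb
    dsimp only at hu hv hb ⊢
    have huo := (Involution.isConj_orderOf hu).trans H.ht
    have hvo := (Involution.isConj_orderOf hv).trans hbG
    have huu := Involution.mul_self_eq_one huo
    have hvv := Involution.mul_self_eq_one hvo
    obtain ⟨heven, hbe⟩ := Involution.eq_half_pow hbG hb
    have hub : u * H.b = H.b * u := by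
      have := Involution.mul_pow_pair huu hvv (orderOf (u * v) / 2)
      rwa [← hbe, Involution.inv_eq_self hbb] at this
    have hvb : v * H.b = H.b * v := by
      have h1 : Commute H.b (u * v) := by rw [hbe]; exact (Commute.refl _).pow_left _
      have h2 : Commute H.b u := hub.symm
      have h3 := (h2.mul_right h1).eq
      rw [← mul_assoc u, huu, one_mul] at h3
      exact h3.symm
    set uK : ↥H.Cb := ⟨u, H.mem_Cb.2 hub⟩ with huK
    set vK : ↥H.Cb := ⟨v, H.mem_Cb.2 hvb⟩ with hvK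
    have huKo : orderOf uK = 2 := by rw [← Subgroup.orderOf_coe]; exact huo
    have huM : uK ∈ M := (hinvM uK huKo).2 hu
    obtain ⟨m, hm2⟩ := heven
    have hbe' : H.bK = (uK * vK) ^ m := Subtype.ext (by
      rw [coe_bK, SubmonoidClass.coe_pow, hbe, hm2]
      congr 1
      omega)
    have hmodd : Odd m := by
      rw [← Nat.not_even_iff_odd]
      rintro ⟨j, rfl⟩
      refine hbM ?_
      rw [hbe', pow_add, ← (Commute.refl (uK * vK)).mul_pow]
      exact pow_mem (hMsq _) j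
    have hpow : (uK * (H.bK * vK)) ^ m = 1 := by
      rw [show uK * (H.bK * vK) = H.bK * (uK * vK) by rw [← mul_assoc, H.bK_comm uK, mul_assoc],
        (show Commute H.bK (uK * vK) from (H.bK_comm _).symm).mul_pow, ← hbe']
      obtain ⟨j, rfl⟩ := hmodd
      rw [pow_succ, pow_mul, pow_two, H.bK_sq, one_pow, one_mul, H.bK_sq]
    have hoddk : Odd (orderOf (uK * (H.bK * vK))) := hmodd.of_dvd_nat (orderOf_dvd_of_pow_eq_one hpow)
    have hkM : H.bK * vK ∈ M := by
      obtain ⟨j, hj⟩ := hoddk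
      set y := uK * (H.bK * vK) with hy
      have hyM : y ∈ M := by
        have : y = y ^ (j + 1) * y ^ (j + 1) := by
          rw [← pow_add, show j + 1 + (j + 1) = orderOf y + 1 by omega, pow_succ, pow_orderOf_eq_one,
            one_mul]
        rw [this]
        exact hMsq _
      have := M.mul_mem (M.inv_mem huM) hyM
      rwa [hy, inv_mul_cancel_left] at this
    have hk2 : H.bK * vK * (H.bK * vK) = 1 := by
      calc H.bK * vK * (H.bK * vK) = H.bK * (vK * H.bK) * vK := by group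
        _ = H.bK * H.bK * (vK * vK) := by rw [H.bK_comm vK]; group
        _ = 1 := by
          rw [H.bK_sq, one_mul]
          exact Subtype.ext (by rw [Subgroup.coe_mul, Subgroup.coe_one]; exact hvv)
    have hk1 : H.bK * vK ≠ 1 := by
      intro e
      rw [e, mul_one, huKo] at hoddk
      exact absurd hoddk (by decide)
    refine ⟨(⟨uK, huM⟩, ⟨_, hkM⟩), ?_, ?_, ?_, ?_⟩
    · rw [← Subgroup.orderOf_coe]; exact huKo
    · rw [← Subgroup.orderOf_coe]; exact Involution.orderOf_eq_two hk2 hk1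
    · rw [← Subgroup.orderOf_coe, Subgroup.coe_mul]; exact hoddk
    · refine Prod.ext rfl ?_
      show v = H.b * ((H.bK * vK : ↥H.Cb) : G)
      rw [Subgroup.coe_mul, coe_bK, hvK, ← mul_assoc, hbb, one_mul]
  refine (Nat.card_eq_of_bijective (fun q : {q : M × M //
      orderOf q.1 = 2 ∧ orderOf q.2 = 2 ∧ Odd (orderOf (q.1 * q.2))} =>
    (⟨(((q.1.1 : ↥H.Cb) : G), H.b * ((q.1.2 : ↥H.Cb) : G)), ?_, ?_, ?_⟩ : {p : G × G //
      IsConj H.t p.1 ∧ IsConj H.b p.2 ∧ H.b ∈ Subgroup.zpowers (p.1 * p.2)})) ⟨?_, ?_⟩).symm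
  · exact (hinvM _ (by rw [Subgroup.orderOf_coe]; exact q.2.1)).1 q.1.1.2
  · set k : ↥H.Cb := (q.1.2 : ↥H.Cb)
    have hko : orderOf k = 2 := by rw [Subgroup.orderOf_coe]; exact q.2.2.1
    have hkv : H.b * (k : G) = ((H.bK * k : ↥H.Cb) : G) := by rw [Subgroup.coe_mul, coe_bK]
    have hv2 : orderOf (H.bK * k) = 2 := by
      refine Involution.orderOf_eq_two ?_ fun e => hbM ?_
      · calc H.bK * k * (H.bK * k) = H.bK * (k * H.bK) * k := by group
          _ = H.bK * H.bK * (k * k) := by rw [H.bK_comm k]; group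
          _ = 1 := by rw [H.bK_sq, one_mul]; exact Involution.mul_self_eq_one hko
      · rw [eq_inv_of_mul_eq_one_left e]; exact M.inv_mem q.1.2.2
    show IsConj H.b (H.b * (k : G))
    rw [hkv]
    rcases H.two_classes _ ((Subgroup.orderOf_coe _).trans hv2) with h | h
    · exfalso
      have := M.mul_mem ((hinvM _ hv2).2 h) (M.inv_mem q.1.2.2)
      rw [mul_inv_cancel_right] at this
      exact hbM this
    · exact h
  · set x : ↥H.Cb := (q.1.1 : ↥H.Cb)
    set k : ↥H.Cb := (q.1.2 : ↥H.Cb)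
    show H.b ∈ Subgroup.zpowers ((x : G) * (H.b * (k : G)))
    obtain ⟨j, hj⟩ := q.2.2.2
    rw [← Subgroup.orderOf_coe, Subgroup.coe_mul] at hj
    refine ⟨((2 * j + 1 : ℕ) : ℤ), ?_⟩
    show ((x : G) * (H.b * (k : G))) ^ ((2 * j + 1 : ℕ) : ℤ) = H.b
    have hmul : (x : G) * (H.b * (k : G)) = ((H.bK * (x * k) : ↥H.Cb) : G) := by
      rw [Subgroup.coe_mul, Subgroup.coe_mul, coe_bK, ← mul_assoc, H.mem_Cb.1 x.2, mul_assoc]
    rw [zpow_natCast, hmul, ← SubmonoidClass.coe_pow,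
      (show Commute H.bK (x * k) from (H.bK_comm _).symm).mul_pow, ← hj, pow_orderOf_eq_one,
      mul_one, hj, pow_succ, pow_mul, pow_two, H.bK_sq, one_pow, one_mul, coe_bK]
  · intro a c hac
    have h' := Prod.ext_iff.1 (Subtype.mk.inj hac)
    exact Subtype.ext (Prod.ext (Subtype.ext (Subtype.ext h'.1))
      (Subtype.ext (Subtype.ext (mul_left_cancel h'.2))))
  · rintro ⟨p, h1, h2, h3⟩
    obtain ⟨q, q1, q2, q3, e⟩ := hfwd p h1 h2 h3
    exact ⟨⟨q, q1, q2, q3⟩, Subtype.ext e.symm⟩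

end Hyp

end Cfsg.Agent.Lib.MTwelveInv
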