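import Mathlib
import Cfsg.Agent.Lib.CentSixSeven.Transfer

/-!
Transfer of an involution into a subgroup of index two of a subgroup of odd index.
-/

set_option autoImplicit false

namespace Cfsg.Agent.Lib.MTwelveInv

open MulAction Subgroup

variable {G : Type*} [Group G]

open scoped Classical in
/-- The character of a subgroup with kernel a given subgroup of index two. -/
noncomputable def signHom (H : Subgroup G) (K : Subgroup H) (hK : K.index = 2) :
    H →* Multiplicative (ZMod 2) where
  toFun x := if x ∈ K then Multiplicative.ofAdd 0 else Multiplicative.ofAdd 1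
  map_one' := by rw [if_pos K.one_mem]; rfl
  map_mul' x y := by
    have h := mul_mem_iff_of_index_two hK (a := x) (b := y)
    by_cases hx : x ∈ K <;> by_cases hy : y ∈ K
    · rw [if_pos (h.2 ⟨fun _ => hy, fun _ => hx⟩), if_pos hx, if_pos hy]; rfl
    · rw [if_neg fun h' => hy ((h.1 h').1 hx), if_pos hx, if_neg hy]; rfl
    · rw [if_neg fun h' => hx ((h.1 h').2 hy), if_neg hx, if_pos hy]; rfl
    · rw [if_pos (h.2 ⟨fun h' => absurd h' hx, fun h' => absurd h' hy⟩), if_neg hx, if_neg hy]; decide

/-- If `P` has odd index and `T` has index two in `P`, there is a character of `G` killing the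
involutions whose conjugates in `P` all lie in `T` and not killing those whose conjugates in `P` all
avoid `T`. -/
theorem exists_sign_hom [Finite G] (P T : Subgroup G) (hodd : Odd P.index) (hTP : T ≤ P)
    (hT : 2 * Nat.card T = Nat.card P) :
    ∃ χ : G →* Multiplicative (ZMod 2),
      (∀ x : G, x * x = 1 → (∀ g : G, g * x * g⁻¹ ∈ P → g * x * g⁻¹ ∈ T) → χ x = 1) ∧
      (∀ x : G, x * x = 1 → (∀ g : G, g * x * g⁻¹ ∈ P → g * x * g⁻¹ ∉ T) → χ x ≠ 1) := by
  classical
  have := Fintype.ofFinite (G ⧸ P)
  have hK : (T.subgroupOf P).index = 2 := by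
    have h := (T.subgroupOf P).card_mul_index
    rw [Nat.card_congr (Subgroup.subgroupOfEquivOfLe hTP).toEquiv, ← hT, mul_comm] at h
    exact Nat.eq_of_mul_eq_mul_right Nat.card_pos h
  refine ⟨MonoidHom.transfer (signHom P (T.subgroupOf P) hK), fun x hx h => ?_, fun x hx h => ?_⟩
  · rw [CentSixSeven.transfer_of_sq_eq_one _ hx]
    refine Finset.prod_eq_one fun q _ => ?_
    have hm := CentSixSeven.fixed_coset_mem q.2
    have := h q.1.out⁻¹ (by simpa using hm)
    show (if _ then _ else _) = _
    rw [if_pos (mem_subgroupOf.2 (by simpa using this))]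
    rfl
  · rw [CentSixSeven.transfer_of_sq_eq_one _ hx, Finset.prod_congr rfl
      (g := fun _ => Multiplicative.ofAdd (1 : ZMod 2)) fun q _ => ?_]
    · rw [Finset.prod_const, Finset.card_univ, ← ofAdd_nsmul, nsmul_one]
      intro h1
      have h2 : ((Fintype.card {q : G ⧸ P // x • q = q} : ℕ) : ZMod 2) = 0 := h1
      rw [ZMod.natCast_eq_zero_iff_even] at h2
      have hmod : Fintype.card (G ⧸ P) ≡ Fintype.card {q : G ⧸ P // x • q = q} [MOD 2] := by
        have : Fact (Nat.Prime 2) := ⟨Nat.prime_two⟩
        have hpg : IsPGroup 2 (zpowers x) := IsPGroup.of_card_dvd_pow (n := 1) (by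
          rw [Nat.card_zpowers, pow_one]
          exact orderOf_dvd_of_pow_eq_one (by rw [pow_two, hx]))
        have := hpg.card_modEq_card_fixedPoints (G ⧸ P)
        rw [← Nat.card_eq_fintype_card, ← Nat.card_eq_fintype_card]
        refine this.trans (congrArg (· % 2) (Nat.card_congr (Equiv.subtypeEquivRight fun q => ?_)))
        constructor
        · exact fun hq => hq ⟨x, mem_zpowers x⟩
        · rintro hq ⟨y, k, rfl⟩
          exact MulAction.mem_stabilizer_iff.1
            (zpow_mem (MulAction.mem_stabilizer_iff.2 hq) k)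
      rw [← Nat.card_eq_fintype_card, ← Subgroup.index_eq_card] at hmod
      rw [Nat.even_iff] at h2
      rw [Nat.odd_iff] at hodd
      unfold Nat.ModEq at hmod
      omega
    · have hm := CentSixSeven.fixed_coset_mem q.2
      show (if _ then _ else _) = _
      rw [if_neg fun h' => h q.1.out⁻¹ (by simpa using hm) (by simpa using mem_subgroupOf.1 h')]

/-- The kernel of a character into a group of order two has index two. -/
theorem index_ker_sign (χ : G →* Multiplicative (ZMod 2)) {x : G} (h : χ x ≠ 1) :
    χ.ker.index = 2 := by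
  have htop : χ.range = ⊤ := by
    rw [eq_top_iff]
    intro y _
    have key : ∀ a y : Multiplicative (ZMod 2), a ≠ 1 → y = 1 ∨ y = a := by decide
    have hy := key _ y h
    rcases hy with rfl | rfl
    · exact one_mem _
    · exact ⟨x, rfl⟩
  rw [Subgroup.index_ker, htop, Subgroup.card_top]
  simp

/-- Thompson's transfer lemma for a group without a subgroup of index two. -/
theorem exists_conj_mem [Finite G] (h2 : ∀ N : Subgroup G, N.Normal → N.index ≠ 2)
    (P T : Subgroup G) (hodd : Odd P.index) (hTP : T ≤ P) (hT : 2 * Nat.card T = Nat.card P)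
    {x : G} (hx : x * x = 1) : ∃ g : G, g * x * g⁻¹ ∈ T := by
  obtain ⟨χ, -, hχ⟩ := exists_sign_hom P T hodd hTP hT
  by_contra hne
  push Not at hne
  exact h2 χ.ker inferInstance (index_ker_sign χ (hχ x hx fun g _ => hne g))

end Cfsg.Agent.Lib.MTwelveInv
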