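import Cfsg.Agent.Lib.MTwelveInv.Basic
import Cfsg.Agent.Lib.MTwelveInv.Transfer
import Cfsg.Agent.Lib.ZStar.Final
import Cfsg.Agent.Lib.Signalizer.LayerBasic

/-!
Fusion of involutions: exactly two classes, represented by `t` and the class 3 representative.
-/

set_option autoImplicit false
set_option maxRecDepth 20000

namespace Cfsg.Agent.Lib.MTwelveInv

variable {G : Type*} [Group G]

theorem rep_lt : aI < 192 ∧ bI < 192 ∧ dI < 192 ∧ deI < 192 ∧ wI < 192 := by
  have h := reps_check
  simp only [Bool.and_eq_true, Nat.blt_eq] at h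
  exact ⟨h.1.1.1.1.2, h.1.1.1.2, h.1.1.2, h.1.2, h.2⟩

theorem rep_cls : cls aI = 2 ∧ cls bI = 3 ∧ cls dI = 4 ∧ cls deI = 4 ∧ cls wI = 3 ∧
    cls (mulT dI 1) = 4 ∧ cls 1 = 1 := by
  have h := reps_check
  simp only [Bool.and_eq_true, beq_true_iff] at h
  exact ⟨h.1.1.1.1.1.1.1.1.1.1, h.1.1.1.1.1.1.1.1.1.2, h.1.1.1.1.1.1.1.1.2, h.1.1.1.1.1.1.1.2,
    h.1.1.1.1.1.1.2, h.1.1.1.1.1.2, (cls_eq_one_iff (by norm_num)).2 rfl⟩

/-- A 2-subgroup equal to its 2-part normalizer is a Sylow 2-subgroup. -/
theorem odd_index_of_normalizer [Finite G] (W : Subgroup G) (hW : IsPGroup 2 W)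
    (h : ∀ Q : Subgroup G, IsPGroup 2 Q → W ≤ Q → ∀ n ∈ Q, (∀ w ∈ W, n * w * n⁻¹ ∈ W) → n ∈ W) :
    Odd W.index := by
  have : Fact (Nat.Prime 2) := ⟨Nat.prime_two⟩
  obtain ⟨Q, hWQ⟩ := hW.exists_le_sylow
  suffices (Q : Subgroup G) = W by
    rw [← this, ← Nat.not_even_iff_odd, even_iff_two_dvd]
    exact Q.not_dvd_index
  by_contra hne
  haveI : Group.IsNilpotent (Q : Subgroup G) := Q.isPGroup'.isNilpotent
  set W' := W.subgroupOf (Q : Subgroup G)
  have hlt : W' < ⊤ := lt_top_iff_ne_top.2 fun he =>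
    hne (le_antisymm (Subgroup.subgroupOf_eq_top.1 he) hWQ)
  obtain ⟨n, hn, hnW⟩ := SetLike.exists_of_lt (Group.normalizerCondition_of_isNilpotent W' hlt)
  refine hnW (Subgroup.mem_subgroupOf.2 (h Q Q.isPGroup' hWQ n n.2 fun w hw => ?_))
  have := (Subgroup.mem_normalizer_iff.1 hn ⟨w, hWQ hw⟩).1 (Subgroup.mem_subgroupOf.2 hw)
  simpa [W', Subgroup.mem_subgroupOf] using this

theorem conj_comm_iff (g x y : G) :
    g * x * g⁻¹ * (g * y * g⁻¹) = g * y * g⁻¹ * (g * x * g⁻¹) ↔ x * y = y * x := by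
  rw [show g * x * g⁻¹ * (g * y * g⁻¹) = g * (x * y) * g⁻¹ by group,
    show g * y * g⁻¹ * (g * x * g⁻¹) = g * (y * x) * g⁻¹ by group]
  exact ⟨fun h => mul_left_cancel (mul_right_cancel h), fun h => by rw [h]⟩

theorem conj_eq_iff_comm {n x : G} : n * x * n⁻¹ = x ↔ n * x = x * n := mul_inv_eq_iff_eq_mul

/-- A group with the table centraliser. -/
structure Base (G : Type*) [Group G] where
  t : G
  f : ℕ → G
  table : Table t f

namespace Base

variable [Finite G] (H : Base G)
include H

/-- The element of the class with centraliser order 16. -/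
noncomputable def b : G := H.f bI

/-- The element of the class with centraliser order 8. -/
noncomputable def a : G := H.f aI

/-- The element of the class with centraliser order 32. -/
noncomputable def d : G := H.f dI

theorem tt : H.t * H.t = 1 := by rw [← pow_two, ← H.table.orderOf_t, pow_orderOf_eq_one]

theorem ht : orderOf H.t = 2 := H.table.orderOf_t

theorem card_dvd : 192 ∣ Nat.card G := by
  rw [← H.table.card_centralizer]
  exact Subgroup.card_subgroup_dvd_card _

theorem no_index_two (hs : IsSimpleGroup G) (N : Subgroup G) (hN : N.Normal) : N.index ≠ 2 := by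
  intro h
  rcases hs.eq_bot_or_eq_top_of_normal N hN with rfl | rfl
  · rw [Subgroup.index_bot] at h
    have := Nat.le_of_dvd (by omega) (h ▸ H.card_dvd)
    omega
  · simp at h

/-- The Sylow 2-subgroup of the table. -/
noncomputable def syl : Subgroup G :=
  H.table.subgroupOfMask sylMask (by
    have h := sylow_check; simp only [Bool.and_eq_true] at h; exact h.1.1.1.1) (by
    have h := sylow_check; simp only [Bool.and_eq_true] at h; exact h.1.1.2)

theorem syl_comm {x : G} (hx : x ∈ H.syl) : x * H.t = H.t * x := by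
  obtain ⟨i, hi, -, rfl⟩ := hx
  exact H.table.commute_t hi

theorem card_syl : Nat.card H.syl = 64 := by
  rw [syl, Table.card_subgroupOfMask]
  have h := sylow_check
  simp only [Bool.and_eq_true] at h
  exact Nat.eq_of_beq_eq_true h.1.1.1.2

theorem t_mem_syl : H.t ∈ H.syl := by
  rw [← H.table.inv_eq, syl, Table.mem_subgroupOfMask_index _ (by norm_num)]
  have h := sylow_check
  simp only [Bool.and_eq_true] at h
  exact h.1.2

theorem syl_centre {x : G} (hx : x ∈ H.syl) (hc : ∀ y ∈ H.syl, x * y = y * x) :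
    x = 1 ∨ x = H.t := by
  obtain ⟨i, hi, hb, rfl⟩ := hx
  have h := sylow_check
  simp only [Bool.and_eq_true] at h
  have hall := allI_spec h.2 hi
  simp only [Bool.or_eq_true, Bool.not_eq_true'] at hall
  rcases hall with (hall | hall) | hall
  · rw [hb] at hall; simp at hall
  · rw [Nat.blt_eq] at hall
    have hi' : i = 0 ∨ i = 1 := by omega
    rcases hi' with rfl | rfl
    · exact Or.inl H.table.one
    · exact Or.inr H.table.inv_eq
  · exfalso
    obtain ⟨j, hj, hjf⟩ := List.all_eq_false.1 hall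
    rw [List.mem_range] at hj
    simp only [Bool.not_eq_true, Bool.or_eq_false_iff, Bool.not_eq_false'] at hjf
    have hjS : H.f j ∈ H.syl := ⟨j, hj, hjf.1, rfl⟩
    have := (H.table.commute_iff hi hj).1 (hc _ hjS)
    rw [hjf.2] at this
    simp at this

theorem odd_syl_index : Odd H.syl.index := by
  have : Fact (Nat.Prime 2) := ⟨Nat.prime_two⟩
  have hS : IsPGroup 2 H.syl := IsPGroup.of_card (n := 6) (by rw [H.card_syl]; norm_num)
  refine odd_index_of_normalizer H.syl hS fun Q hQ hle n hn hnorm => ?_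
  have hnt : n * H.t = H.t * n := by
    have hmem := hnorm _ H.t_mem_syl
    have hfin : (MulAut.conj n).toMonoidHom '' (H.syl : Set G) = H.syl := by
      refine Set.eq_of_subset_of_ncard_le (by rintro _ ⟨w, hw, rfl⟩; exact hnorm w hw) ?_
      exact le_of_eq (Set.ncard_image_of_injective _ (MulAut.conj n).injective).symm
    have hcen : ∀ y ∈ H.syl, n * H.t * n⁻¹ * y = y * (n * H.t * n⁻¹) := by
      intro y hy
      obtain ⟨y', hy', he⟩ : y ∈ (MulAut.conj n).toMonoidHom '' (H.syl : Set G) := hfin.symm ▸ hy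
      have he' : n * y' * n⁻¹ = y := he
      rw [← he']
      exact (conj_comm_iff n H.t y').2 (H.syl_comm hy').symm
    rcases H.syl_centre hmem hcen with h | h
    · exact absurd (conj_eq_one_iff.1 h) (Involution.ne_one H.ht)
    · exact conj_eq_iff_comm.1 h
  have hle' : H.syl ≤ Q ⊓ Subgroup.centralizer ({H.t} : Set G) :=
    le_inf hle fun x hx => Subgroup.mem_centralizer_singleton_iff.2 (H.syl_comm hx)
  obtain ⟨k, hk⟩ := IsPGroup.iff_card.1
    (hQ.to_le (inf_le_left : Q ⊓ Subgroup.centralizer ({H.t} : Set G) ≤ Q))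
  have hd := Subgroup.card_dvd_of_le (inf_le_right : Q ⊓ Subgroup.centralizer ({H.t} : Set G) ≤ _)
  rw [hk, H.table.card_centralizer] at hd
  have hk6 : k ≤ 6 := by
    by_contra hc
    have : 2 ^ 7 ∣ 192 := (pow_dvd_pow 2 (by omega : 7 ≤ k)).trans hd
    norm_num at this
  have heq := Subgroup.eq_of_le_of_card_ge hle' (by
    rw [hk, H.card_syl]
    calc 2 ^ k ≤ 2 ^ 6 := Nat.pow_le_pow_right (by norm_num) hk6
      _ = 64 := by norm_num)
  rw [heq]
  exact ⟨hn, Subgroup.mem_centralizer_singleton_iff.2 hnt⟩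

/-- Number of elements centralising both `t` and an indexed element. -/
theorem card_pair_cent {i : ℕ} (hi : i < 192) :
    Nat.card {x : G // x * H.f i = H.f i * x ∧ x * H.t = H.t * x} = cntI (commT i) := by
  refine H.table.card_subtype _ (commT i) (fun j hj => ?_) fun _ h => h.2
  rw [← H.table.commute_iff hi hj]
  exact ⟨fun h => h.1.symm, fun h => ⟨h.eq.symm, H.table.commute_t hj⟩⟩

theorem cent_count {i : ℕ} (hi : i < 192) :
    (cls i = 2 → cntI (commT i) = 8) ∧ (cls i = 3 → cntI (commT i) = 16) ∧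
      (cls i = 4 → cntI (commT i) = 32) := by
  have h := allI_spec cent_check hi
  simp only [Bool.and_eq_true, Bool.or_eq_true, Bool.not_eq_true', beq_true_iff, beq_false_iff] at h
  exact ⟨fun e => h.1.1.resolve_left (fun h' => h' e), fun e => h.1.2.resolve_left (fun h' => h' e),
    fun e => h.2.resolve_left (fun h' => h' e)⟩

theorem cls_cases {i : ℕ} (hi : i < 192) (h : cls i ≠ 0) :
    cls i = 1 ∨ cls i = 2 ∨ cls i = 3 ∨ cls i = 4 := by
  have := cls_lt hi; omega

theorem ne_t {i : ℕ} (hi : i < 192) (h : cls i ≠ 1) : H.f i ≠ H.t := fun he =>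
  h ((cls_eq_one_iff hi).2 (H.table.inj i hi 1 (by norm_num) (he.trans H.table.inv_eq.symm)))

/-- If a class representative is conjugate to `t`, an element of `G` interchanges it with `t`. -/
theorem exists_swap {r : ℕ} (hr : r < 192) (hrep : clsRep (cls r) = r) (h1 : cls r ≠ 1)
    (h0 : cls r ≠ 0) (hc : IsConj (H.f r) H.t) :
    ∃ h : G, h * H.f r * h⁻¹ = H.t ∧ h * H.t * h⁻¹ = H.f r := by
  obtain ⟨g, hg⟩ := isConj_iff.1 hc
  set y := g * H.t * g⁻¹ with hy
  have hyt : y * H.t = H.t * y := by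
    have hc := (conj_comm_iff g H.t (H.f r)).2 (H.table.commute_t hr).symm
    rwa [hg] at hc
  have hy2 : y * y = 1 := by
    rw [hy]
    calc g * H.t * g⁻¹ * (g * H.t * g⁻¹) = g * (H.t * H.t) * g⁻¹ := by group
      _ = 1 := by rw [H.tt]; group
  have hy1 : y ≠ 1 := fun h => Involution.ne_one H.ht (conj_eq_one_iff.1 h)
  obtain ⟨i, hi, hi0, hiy⟩ := H.table.exists_index_of_involution hy2 hy1 hyt
  have hyt1 : y ≠ H.t := fun he => by
    refine H.ne_t hr h1 ?_
    calc H.f r = g⁻¹ * (g * H.f r * g⁻¹) * g := by group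
      _ = g⁻¹ * (g * H.t * g⁻¹) * g := by rw [hg, ← hy, he]
      _ = H.t := by group
  have hi1 : cls i ≠ 1 := fun he => hyt1 (by rw [← hiy, (cls_eq_one_iff hi).1 he, H.table.inv_eq])
  have hcount : cntI (commT i) = cntI (commT r) := by
    rw [← H.card_pair_cent hi, ← H.card_pair_cent hr]
    refine (Nat.card_congr (Equiv.subtypeEquiv (MulAut.conj g).toEquiv fun x => ?_)).symm
    show _ ↔ g * x * g⁻¹ * _ = _ * (g * x * g⁻¹) ∧ _
    have e1 := conj_comm_iff g x H.t
    have e2 := conj_comm_iff g x (H.f r)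
    rw [hg] at e2
    show _ ↔ _ ∧ g * x * g⁻¹ * H.t = H.t * (g * x * g⁻¹)
    rw [hiy, hy, e1, e2]
    exact and_comm
  have hsame : cls i = cls r := by
    obtain ⟨i2, i3, i4⟩ := H.cent_count hi
    obtain ⟨r2, r3, r4⟩ := H.cent_count hr
    rcases H.cls_cases hi hi0 with e | e | e | e <;>
      rcases H.cls_cases hr h0 with e' | e' | e' | e' <;> simp_all
  obtain ⟨c, hct, hce⟩ := H.table.exists_conj_rep hi hi0
  rw [hsame, hrep, hiy] at hce
  refine ⟨c⁻¹ * g, ?_, ?_⟩
  · calc c⁻¹ * g * H.f r * (c⁻¹ * g)⁻¹ = c⁻¹ * (g * H.f r * g⁻¹) * c := by group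
      _ = c⁻¹ * (H.t * c) := by rw [hg, mul_assoc]
      _ = H.t := by rw [← hct, inv_mul_cancel_left]
  · calc c⁻¹ * g * H.t * (c⁻¹ * g)⁻¹ = c⁻¹ * y * c := by rw [hy]; group
      _ = H.f r := by rw [← hce]; group

theorem bI_spec : bI < 192 ∧ cls bI = 3 := ⟨rep_lt.2.1, rep_cls.2.1⟩

/-- The class 3 involutions are not conjugate to `t`. -/
theorem b_not_conj : ¬ IsConj H.t H.b := by
  intro hc
  obtain ⟨hb, hb3⟩ := H.bI_spec
  obtain ⟨h, h1, h2⟩ := H.exists_swap hb (by rw [hb3]; rfl) (by omega) (by omega) hc.symm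
  have hchk := centB_check
  simp only [Bool.and_eq_true, List.any_eq_true, List.mem_range, beq_true_iff] at hchk
  obtain ⟨⟨⟨hall, -⟩, -⟩, w, hw, hwb, hw2⟩ := hchk
  have hcomm := (H.table.commute_iff hb hw).2 hwb
  have hsq : H.f w * H.f w = H.t := by rw [← H.table.mul w hw w hw, hw2, H.table.inv_eq]
  set v := h * H.f w * h⁻¹ with hv
  have hvt : v * H.t = H.t * v := by
    rw [hv, ← h1]
    calc h * H.f w * h⁻¹ * (h * H.f bI * h⁻¹) = h * (H.f w * H.f bI) * h⁻¹ := by group
      _ = h * (H.f bI * H.f w) * h⁻¹ := by rw [hcomm.eq]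
      _ = _ := by group
  obtain ⟨j, hj, hjv⟩ := (H.table.range v).1 hvt
  have hjb : commT bI j = true := by
    rw [← H.table.commute_iff hb hj, hjv, hv, ← h2]
    show _ * _ = _ * _
    calc h * H.t * h⁻¹ * (h * H.f w * h⁻¹) = h * (H.t * H.f w) * h⁻¹ := by group
      _ = h * (H.f w * H.t) * h⁻¹ := by rw [H.table.commute_t hw]
      _ = _ := by group
  have hjj := allI_spec hall hj
  simp only [hjb, Bool.not_true, Bool.false_or, Bool.and_eq_true, Nat.blt_eq] at hjj
  have hsqv : H.f (mulT j j) = H.f bI := by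
    rw [H.table.mul j hj j hj, hjv, hv]
    calc h * H.f w * h⁻¹ * (h * H.f w * h⁻¹) = h * (H.f w * H.f w) * h⁻¹ := by group
      _ = H.f bI := by rw [hsq]; exact h2
  have heq := H.table.inj _ (mulT_lt hj hj) _ hb hsqv
  have hlt : bI < 2 := heq ▸ hjj.1.1
  have hb' : cls bI ≠ 1 := by omega
  have hb0 := (cls_ne_zero_iff hb).1 (by omega)
  exact hb' ((cls_eq_one_iff hb).2 (by omega))

theorem conj_of_cls {i : ℕ} (hi : i < 192) (h : cls i ≠ 0) :
    IsConj (H.f (clsRep (cls i))) (H.f i) := by
  obtain ⟨c, -, hc⟩ := H.table.exists_conj_rep hi h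
  exact isConj_iff.2 ⟨c, hc⟩

theorem exists_conj_syl {x : G} (hx : orderOf x = 2) :
    ∃ g : G, g * x * g⁻¹ ∈ H.syl := by
  have : Fact (Nat.Prime 2) := ⟨Nat.prime_two⟩
  have hp : IsPGroup 2 (Subgroup.zpowers x) :=
    IsPGroup.of_card (n := 1) (by rw [Nat.card_zpowers, hx, pow_one])
  obtain ⟨Q, hQ⟩ := hp.exists_le_sylow
  let S : Sylow 2 G := (IsPGroup.of_card (n := 6) (by rw [H.card_syl]; norm_num) :
    IsPGroup 2 H.syl).toSylow (by rw [← even_iff_two_dvd, Nat.not_even_iff_odd]; exact H.odd_syl_index)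
  obtain ⟨g, hg⟩ := MulAction.exists_smul_eq G Q S
  refine ⟨g, ?_⟩
  show g * x * g⁻¹ ∈ (S : Subgroup G)
  rw [← hg]
  exact Subgroup.mem_map.2 ⟨x, hQ (Subgroup.mem_zpowers x), rfl⟩

/-- `t` is conjugate to the class 4 representative. -/
theorem d_conj_of_simple (hs : IsSimpleGroup G) : IsConj H.t H.d := by
  by_contra hd
  obtain ⟨g, hg, hne⟩ : ∃ g : G, Commute H.t (g * H.t * g⁻¹) ∧ g * H.t * g⁻¹ ≠ H.t := by
    by_contra hcon
    push Not at hcon
    have hiso : Cfsg.IsIsolatedInvolution H.t := ⟨H.ht, hcon⟩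
    have hz := fun g => ZStar.zStar G H.t hiso g
    rcases hs.eq_bot_or_eq_top_of_normal (Cfsg.oddCore G) inferInstance with hO | hO
    · have hcent : Subgroup.centralizer ({H.t} : Set G) = ⊤ := eq_top_iff.2 fun g _ =>
        Subgroup.mem_centralizer_singleton_iff.2 (by
          have := hz g
          rw [hO, Subgroup.mem_bot, mul_inv_eq_one, mul_inv_eq_iff_eq_mul] at this
          exact this.symm)
      have ht1 : H.t ∈ Subgroup.center G := Subgroup.mem_center_iff.2 fun g =>
        Subgroup.mem_centralizer_singleton_iff.1 (hcent ▸ Subgroup.mem_top g)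
      rcases hs.eq_bot_or_eq_top_of_normal (Subgroup.center G) inferInstance with hC | hC
      · rw [hC, Subgroup.mem_bot] at ht1; exact Involution.ne_one H.ht ht1
      · obtain ⟨g₁, hg₁, g₂, hg₂, hne⟩ :
            ∃ i < 192, ∃ j < 192, commT i j = false := by
          have hc := allI_spec central_check rep_lt.1
          simp only [Bool.or_eq_true, Bool.not_eq_true', Nat.blt_eq] at hc
          rcases hc with hc | hc
          · exfalso
            have h0 : cls aI = 2 := rep_cls.1
            have : aI = 0 ∨ aI = 1 := by omega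
            rcases this with e | e
            · exact (cls_ne_zero_iff rep_lt.1).1 (by omega) |>.1 e
            · have := (cls_eq_one_iff rep_lt.1).2 e; omega
          · obtain ⟨j, hj, hjf⟩ := List.all_eq_false.1 hc
            exact ⟨aI, rep_lt.1, j, List.mem_range.1 hj, by simpa using hjf⟩
        have : commT g₁ g₂ = true := (H.table.commute_iff hg₁ hg₂).1
          ((Subgroup.mem_center_iff.1 (hC ▸ Subgroup.mem_top (H.f g₂))) (H.f g₁))
        rw [hne] at this; simp at this
    · have hodd := PLayerBasic.oddCore_odd (G := G)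
      rw [hO, Subgroup.card_top] at hodd
      have h2 : Even (Nat.card G) := even_iff_two_dvd.2 ((by norm_num : 2 ∣ 192).trans H.card_dvd)
      exact (Nat.not_even_iff_odd.2 hodd) h2
  set x := g * H.t * g⁻¹ with hx
  have hxt : IsConj H.t x := isConj_iff.2 ⟨g, rfl⟩
  have hxo : orderOf x = 2 := (Involution.isConj_orderOf hxt).trans H.ht
  obtain ⟨i, hi, hi0, hix⟩ := H.table.exists_index_of_involution
    (Involution.mul_self_eq_one hxo) (Involution.ne_one hxo) hg.symm.eq
  have hrep := H.conj_of_cls hi hi0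
  have hxi : IsConj H.t (H.f (clsRep (cls i))) := hxt.trans (hix ▸ hrep.symm)
  rcases H.cls_cases hi hi0 with e | e | e | e
  · exact hne (by rw [← hix, (cls_eq_one_iff hi).1 e, H.table.inv_eq])
  · rw [e] at hxi
    obtain ⟨ha, ha2⟩ := (⟨rep_lt.1, rep_cls.1⟩ : aI < 192 ∧ cls aI = 2)
    obtain ⟨h, h1, h2⟩ := H.exists_swap ha (by rw [ha2]; rfl) (by omega) (by omega) hxi.symm
    have hchk := centA_check
    simp only [Bool.and_eq_true, beq_true_iff] at hchk
    obtain ⟨⟨⟨⟨hall, hade⟩, hprod⟩, hprod'⟩, hde'⟩ := hchk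
    have hde : deI < 192 := rep_lt.2.2.2.1
    have hdez : mulT deI 1 < 192 := mulT_lt hde (by norm_num)
    have hd4 : ∀ j, j < 192 → cls j = 4 → ¬ IsConj H.t (H.f j) := fun j hj h4 hc => by
      refine hd (hc.trans ?_)
      have := H.conj_of_cls hj (by omega)
      rw [h4] at this
      exact this.symm
    -- images of the class 4 elements of the centraliser of `a`
    have himg : ∀ j, j < 192 → cls j = 4 → commT aI j = true →
        ∃ k, k < 192 ∧ (k = deI ∨ k = mulT deI 1) ∧ h * H.f j * h⁻¹ = H.f k := by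
      intro j hj h4 hja
      have hcomm := (H.table.commute_iff ha hj).2 hja
      set v := h * H.f j * h⁻¹ with hv
      have hvt : v * H.t = H.t * v := by
        rw [hv, ← h1]
        calc h * H.f j * h⁻¹ * (h * H.f aI * h⁻¹) = h * (H.f j * H.f aI) * h⁻¹ := by group
          _ = h * (H.f aI * H.f j) * h⁻¹ := by rw [hcomm.eq]
          _ = _ := by group
      have hvo : orderOf v = 2 := by
        rw [hv, Involution.orderOf_conj_eq, H.table.orderOf_eq_two hj (by omega)]
      obtain ⟨k, hk, hk0, hkv⟩ := H.table.exists_index_of_involution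
        (Involution.mul_self_eq_one hvo) (Involution.ne_one hvo) hvt
      have hka : commT aI k = true := by
        rw [← H.table.commute_iff ha hk, hkv, hv, ← h2]
        show _ * _ = _ * _
        calc h * H.t * h⁻¹ * (h * H.f j * h⁻¹) = h * (H.t * H.f j) * h⁻¹ := by group
          _ = h * (H.f j * H.t) * h⁻¹ := by rw [H.table.commute_t hj]
          _ = _ := by group
      have hnt : ¬ IsConj H.t (H.f k) := fun hc => hd4 j hj h4 (hc.trans (by
        rw [hkv, hv]; exact (isConj_iff.2 ⟨h, rfl⟩ : IsConj (H.f j) _).symm))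
      have hk2 := allI_spec hall hk
      simp only [hka, Bool.not_true, Bool.false_or, Bool.and_eq_true, Bool.or_eq_true,
        Bool.not_eq_true', beq_true_iff, beq_false_iff] at hk2
      refine ⟨k, hk, ?_, hkv.symm⟩
      rcases H.cls_cases hk hk0 with e' | e' | e' | e'
      · exact absurd (by rw [(cls_eq_one_iff hk).1 e', H.table.inv_eq]) hnt
      · refine absurd (hxi.trans ?_) hnt
        have := H.conj_of_cls hk hk0
        rwa [e'] at this
      · exact absurd e' hk2.1.2
      · rcases hk2.2 with (h' | h') | h'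
        · exact absurd e' h'
        · exact Or.inl h'
        · exact Or.inr h'
    obtain ⟨k, hk, hkc, hke⟩ := himg deI hde rep_cls.2.2.2.1 hade
    have hzimg : h * H.f (mulT deI 1) * h⁻¹ = H.f (mulT k aI) := by
      rw [H.table.mul deI hde 1 (by norm_num), H.table.inv_eq, H.table.mul k hk aI ha, ← hke, ← h2]
      group
    have hk4 : cls (mulT k aI) = 2 := by
      rcases hkc with rfl | rfl
      · exact hprod
      · exact hprod'
    have hconj : IsConj H.t (H.f (mulT k aI)) := by
      have := H.conj_of_cls (mulT_lt hk ha) (by omega)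
      rw [hk4] at this
      exact hxi.trans this
    exact hd4 _ hdez hde' (hconj.trans (isConj_iff.2 ⟨h, hzimg⟩).symm)
  · rw [e] at hxi; exact H.b_not_conj hxi
  · rw [e] at hxi; exact hd hxi

/-- The class 2 representative is fused either to `t` or to `b`. -/
theorem a_fused_of_simple (hs : IsSimpleGroup G) : IsConj H.t H.a ∨ IsConj H.b H.a := by
  have hchk := miss_check
  simp only [Bool.and_eq_true] at hchk
  obtain ⟨⟨⟨hclosed, hcnt⟩, h0⟩, hsub⟩ := hchk
  set T := H.table.subgroupOfMask missMask hclosed h0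
  have hTS : T ≤ H.syl := by
    rintro x ⟨i, hi, hb, rfl⟩
    have := allI_spec hsub hi
    simp only [hb, Bool.not_true, Bool.false_or, Bool.and_eq_true] at this
    exact ⟨i, hi, this.1, rfl⟩
  have hT : 2 * Nat.card T = Nat.card H.syl := by
    rw [Table.card_subgroupOfMask, Nat.eq_of_beq_eq_true hcnt, H.card_syl]
  have ha := H.table.orderOf_eq_two rep_lt.1 (by rw [rep_cls.1]; norm_num)
  obtain ⟨g, i, hi, hbit, hgi⟩ := exists_conj_mem (H.no_index_two hs) H.syl T H.odd_syl_index hTS hT
    (x := H.a) (Involution.mul_self_eq_one ha)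
  have hac : IsConj (H.f i) H.a := by
    rw [hgi]; exact (isConj_iff.2 ⟨g, rfl⟩ : IsConj H.a _).symm
  have hio : orderOf (H.f i) = 2 := by
    rw [← Involution.isConj_orderOf hac]; exact ha
  have hi0 : cls i ≠ 0 := by
    rw [cls_ne_zero_iff hi]
    exact ⟨fun e => Involution.ne_one hio (by rw [e, H.table.one]),
      (H.table.mul_self_eq_one_iff hi).1 (Involution.mul_self_eq_one hio)⟩
  have h2 := allI_spec hsub hi
  simp only [hbit, Bool.not_true, Bool.false_or, Bool.and_eq_true, Bool.not_eq_true',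
    beq_false_iff] at h2
  have hrep := (H.conj_of_cls hi hi0).trans hac
  rcases H.cls_cases hi hi0 with e | e | e | e
  · rw [e] at hrep; exact Or.inl (H.table.inv_eq ▸ hrep)
  · exact absurd e h2.2
  · rw [e] at hrep; exact Or.inr hrep
  · rw [e] at hrep; exact Or.inl ((H.d_conj_of_simple hs).trans hrep)

end Base

/-- The hypotheses: a group with the table centraliser and the fusion of a simple group. -/
structure Hyp (G : Type*) [Group G] extends Base G where
  d_conj : IsConj t (f dI)
  a_fused : IsConj t (f aI) ∨ IsConj (f bI) (f aI)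

/-- A simple group with the table centraliser. -/
noncomputable def Hyp.ofSimple [Finite G] (H : Base G) (hs : IsSimpleGroup G) : Hyp G :=
  ⟨H, H.d_conj_of_simple hs, H.a_fused_of_simple hs⟩

namespace Hyp

variable [Finite G] (H : Hyp G)
include H

/-- Conjugacy class of an indexed involution. -/
theorem conj_class {i : ℕ} (hi : i < 192) (h : cls i ≠ 0) :
    ((cls i = 1 ∨ cls i = 4) → IsConj H.t (H.f i)) ∧ (cls i = 3 → IsConj H.b (H.f i)) ∧
      (cls i = 2 → IsConj H.a (H.f i)) := by
  have hrep := H.conj_of_cls hi h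
  refine ⟨?_, ?_, ?_⟩
  · rintro (e | e)
    · rw [(cls_eq_one_iff hi).1 e, H.table.inv_eq]
    · rw [e] at hrep; exact H.d_conj.trans hrep
  · intro e; rw [e] at hrep; exact hrep
  · intro e; rw [e] at hrep; exact hrep

theorem two_classes (x : G) (hx : orderOf x = 2) : IsConj H.t x ∨ IsConj H.b x := by
  obtain ⟨g, hg⟩ := H.exists_conj_syl hx
  have hgo : orderOf (g * x * g⁻¹) = 2 := by rw [Involution.orderOf_conj_eq]; exact hx
  obtain ⟨i, hi, hi0, hix⟩ := H.table.exists_index_of_involution
    (Involution.mul_self_eq_one hgo) (Involution.ne_one hgo) (H.syl_comm hg)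
  have hback : IsConj (H.f i) x := by
    rw [hix]; exact (isConj_iff.2 ⟨g, rfl⟩ : IsConj x _).symm
  obtain ⟨h14, h3, h2⟩ := H.conj_class hi hi0
  rcases H.cls_cases hi hi0 with e | e | e | e
  · exact Or.inl ((h14 (Or.inl e)).trans hback)
  · rcases H.a_fused with ha | ha
    · exact Or.inl (ha.trans ((h2 e).trans hback))
    · exact Or.inr (ha.trans ((h2 e).trans hback))
  · exact Or.inr ((h3 e).trans hback)
  · exact Or.inl ((h14 (Or.inr e)).trans hback)

theorem not_both {x : G} (h1 : IsConj H.t x) (h2 : IsConj H.b x) : False :=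
  H.b_not_conj (h1.trans h2.symm)

end Hyp

end Cfsg.Agent.Lib.MTwelveInv
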