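import Cfsg.Agent.Lib.MTwelveInv.CentB
import Cfsg.Agent.S0213

/-!
The order of a simple group with the table centraliser is 95040.
-/

set_option autoImplicit false
set_option maxRecDepth 20000

namespace Cfsg.Agent.Lib.MTwelveInv

variable {G : Type*} [Group G] [Finite G]

theorem powT_lt {i : ℕ} (hi : i < 192) : ∀ k, powT i k < 192
  | 0 => by simp [powT]
  | k + 1 => mulT_lt (powT_lt hi k) hi

theorem Table.f_powT {t : G} {f : ℕ → G} (T : Table t f) {i : ℕ} (hi : i < 192) :
    ∀ k, f (powT i k) = f i ^ k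
  | 0 => by simp [powT, T.one]
  | k + 1 => by rw [powT, T.mul _ (powT_lt hi k) _ hi, T.f_powT hi k, pow_succ]

theorem Table.hitsZ_iff {t : G} {f : ℕ → G} (T : Table t f) {i : ℕ} (hi : i < 192) :
    hitsZ i = true ↔ t ∈ Subgroup.zpowers (f i) := by
  simp only [hitsZ, List.any_eq_true, List.mem_range, beq_true_iff]
  constructor
  · rintro ⟨k, -, hk⟩
    rw [← T.inv_eq, ← hk, T.f_powT hi]
    exact Subgroup.pow_mem _ (Subgroup.mem_zpowers _) k
  · intro h
    classical
    have hord := allI_spec order_check hi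
    simp only [List.any_eq_true, List.mem_range, Bool.and_eq_true, Bool.not_eq_true',
      beq_true_iff, beq_false_iff] at hord
    obtain ⟨m, hm, hm0, hmk⟩ := hord
    have hle : orderOf (f i) ≤ m := orderOf_le_of_pow_eq_one (Nat.pos_of_ne_zero hm0)
      (by rw [← T.f_powT hi, hmk, T.one])
    rw [(isOfFinOrder_of_finite _).mem_zpowers_iff_mem_range_orderOf, Finset.mem_image] at h
    obtain ⟨k, hk, hkt⟩ := h
    rw [Finset.mem_range] at hk
    refine ⟨k, by omega, T.inj _ (powT_lt hi k) _ (by norm_num) ?_⟩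
    rw [T.f_powT hi, hkt, T.inv_eq]

namespace Hyp

variable (H : Hyp G)
include H

theorem commute_of_mem_zpowers {u v : G} (hu : u * u = 1) (hv : v * v = 1)
    (h : H.t ∈ Subgroup.zpowers (u * v)) : u * H.t = H.t * u ∧ v * H.t = H.t * v := by
  obtain ⟨-, he⟩ := Involution.eq_half_pow H.ht h
  have hut : u * H.t = H.t * u := by
    have := Involution.mul_pow_pair hu hv (orderOf (u * v) / 2)
    rwa [← he, Involution.inv_eq_self H.tt] at this
  refine ⟨hut, ?_⟩
  have h1 : Commute H.t (u * v) := by rw [he]; exact (Commute.refl _).pow_left _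
  have h2 : Commute H.t u := hut.symm
  have h3 := (h2.mul_right h1).eq
  rw [← mul_assoc u, hu, one_mul] at h3
  exact h3.symm

theorem isConj_iff_cls {i : ℕ} (hi : i < 192) :
    (IsConj H.t H.a →
      (IsConj H.t (H.f i) ↔ (Nat.beq (cls i) 1 || Nat.beq (cls i) 2 || Nat.beq (cls i) 4) = true) ∧
      (IsConj H.b (H.f i) ↔ Nat.beq (cls i) 3 = true)) ∧
    (IsConj H.b H.a →
      (IsConj H.t (H.f i) ↔ (Nat.beq (cls i) 1 || Nat.beq (cls i) 4) = true) ∧
      (IsConj H.b (H.f i) ↔ (Nat.beq (cls i) 2 || Nat.beq (cls i) 3) = true)) := by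
  simp only [Bool.or_eq_true, beq_true_iff]
  have hz : cls i = 0 → ∀ x : G, orderOf x = 2 → ¬ IsConj x (H.f i) := by
    intro h0 x hx hc
    have ho := (Involution.isConj_orderOf hc).trans hx
    exact (cls_ne_zero_iff hi).2 ⟨fun e => Involution.ne_one ho (by rw [e, H.table.one]),
      (H.table.mul_self_eq_one_iff hi).1 (Involution.mul_self_eq_one ho)⟩ h0
  have hbo : orderOf H.b = 2 := H.table.orderOf_eq_two rep_lt.2.1 (by rw [rep_cls.2.1]; norm_num)
  by_cases h0 : cls i = 0
  · exact ⟨fun _ => ⟨⟨fun h => absurd h (hz h0 _ H.ht), fun h => by omega⟩,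
      ⟨fun h => absurd h (hz h0 _ hbo), fun h => by omega⟩⟩,
      fun _ => ⟨⟨fun h => absurd h (hz h0 _ H.ht), fun h => by omega⟩,
      ⟨fun h => absurd h (hz h0 _ hbo), fun h => by omega⟩⟩⟩
  obtain ⟨h14, h3, h2⟩ := H.conj_class hi h0
  have hlt := cls_lt hi
  refine ⟨fun ha => ?_, fun ha => ?_⟩
  · by_cases e : cls i = 3
    · exact ⟨⟨fun h => absurd (h3 e) fun h' => H.not_both h h', fun h => by omega⟩,
        ⟨fun _ => e, fun _ => h3 e⟩⟩
    · have hc : IsConj H.t (H.f i) := by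
        by_cases e2 : cls i = 2
        · exact ha.trans (h2 e2)
        · exact h14 (by omega)
      exact ⟨⟨fun _ => by omega, fun _ => hc⟩,
        ⟨fun h => absurd h fun h' => H.not_both hc h', fun h => absurd h e⟩⟩
  · by_cases e : cls i = 1 ∨ cls i = 4
    · exact ⟨⟨fun _ => e, fun _ => h14 e⟩,
        ⟨fun h => absurd h fun h' => H.not_both (h14 e) h', fun h => by omega⟩⟩
    · have hc : IsConj H.b (H.f i) := by
        by_cases e2 : cls i = 2
        · exact ha.trans (h2 e2)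
        · exact h3 (by omega)
      exact ⟨⟨fun h => absurd hc fun h' => H.not_both h h', fun h => absurd h e⟩,
        ⟨fun _ => by omega, fun _ => hc⟩⟩

/-- The pairs defining `t`. -/
theorem card_pairs_t :
    (IsConj H.t H.a → Nat.card {p : G × G //
      IsConj H.t p.1 ∧ IsConj H.b p.2 ∧ H.t ∈ Subgroup.zpowers (p.1 * p.2)} = 240) ∧
    (IsConj H.b H.a → Nat.card {p : G × G //
      IsConj H.t p.1 ∧ IsConj H.b p.2 ∧ H.t ∈ Subgroup.zpowers (p.1 * p.2)} = 48) := by
  have hbo : orderOf H.b = 2 := H.table.orderOf_eq_two rep_lt.2.1 (by rw [rep_cls.2.1]; norm_num)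
  have hC : ∀ x y : G, IsConj H.t x ∧ IsConj H.b y ∧ H.t ∈ Subgroup.zpowers (x * y) →
      x * H.t = H.t * x ∧ y * H.t = H.t * y := fun x y ⟨hx, hy, hm⟩ =>
    H.commute_of_mem_zpowers (Involution.mul_self_eq_one ((Involution.isConj_orderOf hx).trans H.ht))
      (Involution.mul_self_eq_one ((Involution.isConj_orderOf hy).trans hbo)) hm
  refine ⟨fun ha => ?_, fun ha => ?_⟩
  · rw [Table.pair_card H.table (fun x y => IsConj H.t x ∧ IsConj H.b y ∧
      H.t ∈ Subgroup.zpowers (x * y)) (fun i j => (Nat.beq (cls i) 1 || Nat.beq (cls i) 2 ||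
        Nat.beq (cls i) 4) && Nat.beq (cls j) 3 && hitsZ (mulT i j)) (fun i hi j hj => ?_) hC]
    · exact pairs_first
    · rw [((H.isConj_iff_cls hi).1 ha).1, ((H.isConj_iff_cls hj).1 ha).2, ← H.table.mul i hi j hj,
        ← H.table.hitsZ_iff (mulT_lt hi hj)]
      simp only [Bool.and_eq_true, and_assoc]
  · rw [Table.pair_card H.table (fun x y => IsConj H.t x ∧ IsConj H.b y ∧
      H.t ∈ Subgroup.zpowers (x * y)) (fun i j => (Nat.beq (cls i) 1 || Nat.beq (cls i) 4) &&
        (Nat.beq (cls j) 2 || Nat.beq (cls j) 3) && hitsZ (mulT i j)) (fun i hi j hj => ?_) hC]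
    · exact pairs_second
    · rw [((H.isConj_iff_cls hi).2 ha).1, ((H.isConj_iff_cls hj).2 ha).2, ← H.table.mul i hi j hj,
        ← H.table.hitsZ_iff (mulT_lt hi hj)]
      simp only [Bool.and_eq_true, and_assoc]

/-- The class of `t` has at least 288 elements in the first fusion pattern. -/
theorem class_bound (ha : IsConj H.t H.a) : 288 ≤ Nat.card {y : G // IsConj H.t y} := by
  classical
  set Y := {y : G // IsConj H.t y}
  let Pz := {p : G × G // IsConj H.t p.1 ∧ IsConj H.t p.2 ∧ p.1 * p.2 ≠ p.2 * p.1 ∧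
    H.t ∈ Subgroup.zpowers (p.1 * p.2)}
  have hP : Nat.card Pz = 288 := by
    show Nat.card {p : G × G // IsConj H.t p.1 ∧ IsConj H.t p.2 ∧ p.1 * p.2 ≠ p.2 * p.1 ∧
      H.t ∈ Subgroup.zpowers (p.1 * p.2)} = 288
    rw [Table.pair_card H.table (fun x y => IsConj H.t x ∧ IsConj H.t y ∧ x * y ≠ y * x ∧
      H.t ∈ Subgroup.zpowers (x * y)) (fun i j =>
        (Nat.beq (cls i) 1 || Nat.beq (cls i) 2 || Nat.beq (cls i) 4) &&
        (Nat.beq (cls j) 1 || Nat.beq (cls j) 2 || Nat.beq (cls j) 4) &&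
        !commT i j && hitsZ (mulT i j)) (fun i hi j hj => ?_) fun x y h =>
          H.commute_of_mem_zpowers
            (Involution.mul_self_eq_one ((Involution.isConj_orderOf h.1).trans H.ht))
            (Involution.mul_self_eq_one ((Involution.isConj_orderOf h.2.1).trans H.ht)) h.2.2.2]
    · exact pairs_within
    · rw [((H.isConj_iff_cls hi).1 ha).1, ((H.isConj_iff_cls hj).1 ha).1, ← H.table.mul i hi j hj,
        ← H.table.hitsZ_iff (mulT_lt hi hj), H.table.mul i hi j hj, ne_eq,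
        show (H.f i * H.f j = H.f j * H.f i) = Commute (H.f i) (H.f j) from rfl,
        H.table.commute_iff hi hj]
      simp only [Bool.and_eq_true, Bool.not_eq_true', Bool.not_eq_true, and_assoc]
  have hcj : ∀ y : Y, ∃ g : G, g * H.t * g⁻¹ = y.1 := fun y => isConj_iff.1 y.2
  choose c hc using hcj
  let F : Y × Pz → Y × Y := fun q =>
    (⟨c q.1 * q.2.1.1 * (c q.1)⁻¹, q.2.2.1.trans (isConj_iff.2 ⟨_, rfl⟩)⟩,
      ⟨c q.1 * q.2.1.2 * (c q.1)⁻¹, q.2.2.2.1.trans (isConj_iff.2 ⟨_, rfl⟩)⟩)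
  have hF : Function.Injective F := by
    rintro ⟨y, p⟩ ⟨y', p'⟩ h
    simp only [F, Prod.ext_iff] at h
    have h' := And.intro (congrArg Subtype.val h.1) (congrArg Subtype.val h.2)
    clear h
    rename' h' => h
    dsimp only at h
    have key : ∀ (y : Y) (p : Pz), y.1 =
        ((c y * p.1.1 * (c y)⁻¹) * (c y * p.1.2 * (c y)⁻¹)) ^
          (orderOf ((c y * p.1.1 * (c y)⁻¹) * (c y * p.1.2 * (c y)⁻¹)) / 2) := fun y p => by
      refine (Involution.eq_half_pow ((Involution.isConj_orderOf y.2).trans H.ht) ?_).2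
      rw [← hc y, show c y * p.1.1 * (c y)⁻¹ * (c y * p.1.2 * (c y)⁻¹) =
        c y * (p.1.1 * p.1.2) * (c y)⁻¹ by group]
      obtain ⟨k, hk⟩ := p.2.2.2.2
      refine ⟨k, ?_⟩
      show (c y * (p.1.1 * p.1.2) * (c y)⁻¹) ^ k = _
      rw [conj_zpow]
      simp only at hk
      rw [hk]
    obtain rfl : y = y' := Subtype.ext (by rw [key y p, key y' p', h.1, h.2])
    exact Prod.ext rfl (Subtype.ext (Prod.ext (mul_left_cancel (mul_right_cancel h.1))
      (mul_left_cancel (mul_right_cancel h.2))))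
  have h := Nat.card_le_card_of_injective F hF
  rw [Nat.card_prod, Nat.card_prod, hP] at h
  have : Nonempty Y := ⟨⟨H.t, IsConj.refl _⟩⟩
  exact Nat.le_of_mul_le_mul_left h Nat.card_pos

/-- In the second fusion pattern the class of `t` meets its centraliser in seven elements whose
conjugations form a subgroup of order 1344. -/
theorem exists_1344 (hb : IsConj H.b H.a) : ∃ N : Subgroup G, Nat.card N = 7 * 192 ∧
    ∀ g ∈ N, g * H.t * g⁻¹ * H.t = H.t * (g * H.t * g⁻¹) := by
  classical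
  set S : Set G := {x | IsConj H.t x ∧ x * H.t = H.t * x}
  have hS : Nat.card S = 7 := by
    rw [show Nat.card S = Nat.card {x : G // IsConj H.t x ∧ x * H.t = H.t * x} from rfl,
      H.table.card_subtype _ (fun i => Nat.beq (cls i) 1 || Nat.beq (cls i) 4)
        (fun i hi => ⟨fun h => ((H.isConj_iff_cls hi).2 hb).1.1 h.1,
          fun h => ⟨((H.isConj_iff_cls hi).2 hb).1.2 h, H.table.commute_t hi⟩⟩) fun _ h => h.2]
    exact zero_four_count
  have hScomm : ∀ x ∈ S, ∀ y ∈ S, x * y = y * x := by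
    rintro x ⟨hx, hxt⟩ y ⟨hy, hyt⟩
    obtain ⟨i, hi, rfl⟩ := (H.table.range x).1 hxt
    obtain ⟨j, hj, rfl⟩ := (H.table.range y).1 hyt
    refine ((H.table.commute_iff hi hj).2 ?_).eq
    have hchk := allI_spec (allI_spec zero_four_check hi) hj
    rw [((H.isConj_iff_cls hi).2 hb).1.1 hx, ((H.isConj_iff_cls hj).2 hb).1.1 hy] at hchk
    simpa using hchk
  -- a conjugation taking `t` to an element of `S` preserves `S`
  have hpres : ∀ g : G, g * H.t * g⁻¹ ∈ S → ∀ x ∈ S, g * x * g⁻¹ ∈ S := by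
    intro g hg
    have hgood : ∀ x ∈ S, g⁻¹ * x * g ∈ S := by
      intro x hx
      refine ⟨hx.1.trans (isConj_iff.2 ⟨g⁻¹, by group⟩), ?_⟩
      have h1 := hScomm x hx _ hg
      calc g⁻¹ * x * g * H.t = g⁻¹ * (x * (g * H.t * g⁻¹)) * g := by group
        _ = g⁻¹ * ((g * H.t * g⁻¹) * x) * g := by rw [h1]
        _ = _ := by group
    intro x hx
    have hfin : (fun y => g⁻¹ * y * g) '' S = S := Set.eq_of_subset_of_ncard_le
      (by rintro _ ⟨y, hy, rfl⟩; exact hgood y hy)
      (le_of_eq (Set.ncard_image_of_injective _ fun a b hab =>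
        mul_left_cancel (mul_right_cancel hab)).symm)
    obtain ⟨y, hy, rfl⟩ : x ∈ (fun y => g⁻¹ * y * g) '' S := hfin.symm ▸ hx
    show g * (g⁻¹ * y * g) * g⁻¹ ∈ S
    rwa [show g * (g⁻¹ * y * g) * g⁻¹ = y by group]
  have htS : H.t ∈ S := ⟨IsConj.refl _, rfl⟩
  let M : Submonoid G :=
    { carrier := {g | g * H.t * g⁻¹ ∈ S}
      one_mem' := by simpa using htS
      mul_mem' := fun {a c} ha hc => by
        have := hpres a ha _ hc
        show a * c * H.t * (a * c)⁻¹ ∈ S
        rwa [show a * c * H.t * (a * c)⁻¹ = a * (c * H.t * c⁻¹) * a⁻¹ by group] }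
  let N : Subgroup G :=
    { M with
      inv_mem' := fun {x} hx => by
        have : x⁻¹ ∈ Submonoid.powers x := by
          rw [(isOfFinOrder_of_finite x).mem_powers_iff_mem_zpowers]
          exact Subgroup.inv_mem _ (Subgroup.mem_zpowers x)
        exact (Submonoid.powers_le.2 (show x ∈ M from hx)) this }
  have hsel : ∀ x : S, ∃ g : G, g * H.t * g⁻¹ = x.1 := fun x => isConj_iff.1 x.2.1
  choose c hc using hsel
  have hN : Nat.card N = 7 * 192 := by
    rw [← hS, ← H.table.card_centralizer, ← Nat.card_prod]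
    refine (Nat.card_eq_of_bijective (fun p : S × Subgroup.centralizer ({H.t} : Set G) =>
      (⟨c p.1 * p.2.1, ?_⟩ : N)) ⟨?_, ?_⟩).symm
    · show c p.1 * p.2.1 * H.t * (c p.1 * p.2.1)⁻¹ ∈ S
      rw [show c p.1 * p.2.1 * H.t * (c p.1 * p.2.1)⁻¹ = c p.1 * (p.2.1 * H.t * p.2.1⁻¹) * (c p.1)⁻¹ by
        group, Subgroup.mem_centralizer_singleton_iff.1 p.2.2, mul_inv_cancel_right, hc]
      exact p.1.2
    · rintro ⟨x, y⟩ ⟨x', y'⟩ h
      have h' : c x * y.1 = c x' * y'.1 := Subtype.mk.inj h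
      obtain rfl : x = x' := Subtype.ext (by
        rw [← hc x, ← hc x']
        have e : ∀ (x : S) (y : Subgroup.centralizer ({H.t} : Set G)),
            c x * H.t * (c x)⁻¹ = c x * y.1 * H.t * (c x * y.1)⁻¹ := fun x y => by
          rw [show c x * y.1 * H.t * (c x * y.1)⁻¹ = c x * (y.1 * H.t * y.1⁻¹) * (c x)⁻¹ by group,
            Subgroup.mem_centralizer_singleton_iff.1 y.2, mul_inv_cancel_right]
        rw [e x y, e x' y', h'])
      exact Prod.ext rfl (Subtype.ext (mul_left_cancel h'))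
    · rintro ⟨g, hg⟩
      refine ⟨(⟨g * H.t * g⁻¹, hg⟩, ⟨(c ⟨g * H.t * g⁻¹, hg⟩)⁻¹ * g, ?_⟩),
        Subtype.ext (mul_inv_cancel_left _ _)⟩
      rw [Subgroup.mem_centralizer_singleton_iff]
      have e := hc ⟨g * H.t * g⁻¹, hg⟩
      generalize c ⟨g * H.t * g⁻¹, hg⟩ = d at e ⊢
      simp only at e
      calc d⁻¹ * g * H.t = d⁻¹ * (g * H.t * g⁻¹) * g := by group
        _ = d⁻¹ * (d * H.t * d⁻¹) * g := by rw [e]
        _ = _ := by group
  exact ⟨N, hN, fun g hg => (show g * H.t * g⁻¹ ∈ S from hg).2⟩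

/-- A simple group has no subgroup of that kind of full order. -/
theorem not_1344 (hs : IsSimpleGroup G) (hb : IsConj H.b H.a) : Nat.card G ≠ 7 * 192 := by
  obtain ⟨N, hN, hNt⟩ := H.exists_1344 hb
  intro hG
  have htop : N = ⊤ := N.eq_top_of_card_eq (by rw [hN, hG])
  have hnormal : (Subgroup.normalClosure ({H.t} : Set G)) ≤ Subgroup.centralizer ({H.t} : Set G) := by
    rw [Subgroup.normalClosure, Subgroup.closure_le]
    intro y hy
    obtain ⟨z, hz, hzy⟩ := Group.mem_conjugatesOfSet_iff.1 hy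
    rw [Set.mem_singleton_iff] at hz
    subst hz
    obtain ⟨g, rfl⟩ := isConj_iff.1 hzy
    have hg : g ∈ N := htop ▸ Subgroup.mem_top g
    exact Subgroup.mem_centralizer_singleton_iff.2 (hNt g hg)
  rcases hs.eq_bot_or_eq_top_of_normal (Subgroup.normalClosure ({H.t} : Set G))
    inferInstance with e | e
  · have : H.t ∈ (⊥ : Subgroup G) := e ▸ Subgroup.subset_normalClosure rfl
    exact Involution.ne_one H.ht (Subgroup.mem_bot.1 this)
  · rw [e, top_le_iff] at hnormal
    have := H.table.card_centralizer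
    rw [hnormal, Subgroup.card_top, hG] at this
    omega

/-- The order of `G` in each fusion pattern. -/
theorem card_cases : (IsConj H.t H.a ∧ Nat.card G = 95040) ∨
    (IsConj H.b H.a ∧ (Nat.card G = 95040 ∨ Nat.card G = 1344) ∧ 7 * 192 ∣ Nat.card G) := by
  have hbo : orderOf H.b = 2 := H.table.orderOf_eq_two rep_lt.2.1 (by rw [rep_cls.2.1]; norm_num)
  obtain ⟨m, hm, hcb, hpb⟩ := H.cb_data
  have hform := S0213.result H.t H.b H.ht hbo H.b_not_conj H.two_classes
  rw [show Nat.card (Subgroup.centralizer ({H.b} : Set G)) = 4 * m from hcb, hpb,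
    H.table.card_centralizer] at hform
  rcases H.a_fused with ha | ha
  · refine Or.inl ⟨ha, ?_⟩
    rw [H.card_pairs_t.1 ha] at hform
    have horb := Involution.card_isConj_mul_card_centralizer H.t
    rw [H.table.card_centralizer] at horb
    have hbd := H.class_bound ha
    rcases hm with rfl | rfl | rfl <;> norm_num at hform <;> omega
  · rw [H.card_pairs_t.2 ha] at hform
    obtain ⟨N, hN, -⟩ := H.exists_1344 ha
    have hd : 7 * 192 ∣ Nat.card G := hN ▸ N.card_subgroup_dvd_card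
    refine Or.inr ⟨ha, ?_, hd⟩
    obtain ⟨k, hk⟩ := hd
    rcases hm with rfl | rfl | rfl <;> norm_num at hform <;> omega

/-- The order of a simple group. -/
theorem card_eq (hs : IsSimpleGroup G) : Nat.card G = 95040 := by
  rcases H.card_cases with ⟨-, h⟩ | ⟨ha, h | h, -⟩
  · exact h
  · exact h
  · exact absurd h (H.not_1344 hs ha)

end Hyp

end Cfsg.Agent.Lib.MTwelveInv
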