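import Cfsg.Agent.Lib.MTwelveInv.Model
import Cfsg.Agent.Lib.MTwelveInv.Order
import Cfsg.Agent.Lib.Recog95040.Main
import Cfsg.Agent.Lib.Fusion.Mathieu.Identify
import Cfsg.Agent.Lib.Compute.Mathieu.Outer

/-!
Recognition of the Mathieu group of degree 12 by the centraliser of a central involution.
-/

set_option autoImplicit false
set_option maxRecDepth 20000

namespace Cfsg.Agent.Lib.MTwelveInv

theorem Table.map_conj {G : Type*} [Group G] {t : G} {f : ℕ → G} (T : Table t f) (g : G) :
    Table (g * t * g⁻¹) (fun i => g * f i * g⁻¹) := by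
  refine ⟨?_, ?_, ?_, ?_, fun x => ?_⟩
  · show g * f 0 * g⁻¹ = 1
    rw [T.one]; group
  · show g * f 1 * g⁻¹ = _
    rw [T.inv_eq]
  · intro i hi j hj h
    exact T.inj i hi j hj (mul_left_cancel (mul_right_cancel h))
  · intro i hi j hj
    show g * f (mulT i j) * g⁻¹ = g * f i * g⁻¹ * (g * f j * g⁻¹)
    rw [T.mul i hi j hj]
    group
  · have h := conj_comm_iff g (g⁻¹ * x * g) t
    rw [show g * (g⁻¹ * x * g) * g⁻¹ = x by group] at h
    rw [h, T.range]
    constructor
    · rintro ⟨i, hi, e⟩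
      exact ⟨i, hi, by rw [e]; group⟩
    · rintro ⟨i, hi, e⟩
      exact ⟨i, hi, by rw [← e]; group⟩

theorem exists_table {G : Type*} [Group G] (u : ↥Cfsg.Spor.M12) (hu : Cfsg.IsTwoCentralInvolution u)
    (t : G) (ht : orderOf t = 2) (e : ↥(Subgroup.centralizer ({t} : Set G)) ≃*
      ↥(Subgroup.centralizer ({u} : Set ↥Cfsg.Spor.M12))) :
    ∃ f : ℕ → G, Table t f := by
  classical
  obtain ⟨g, hg⟩ := exists_conj_elM u hu
  set fu : ℕ → ↥Cfsg.Spor.M12 := fun i => g * elM i * g⁻¹
  have Tu : Table u fu := hg ▸ elM_table.map_conj g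
  let F : ℕ → G := fun i => if h : i < 192 then
    ((e.symm ⟨fu i, Subgroup.mem_centralizer_singleton_iff.2 (Tu.commute_t h)⟩ :
      Subgroup.centralizer ({t} : Set G)) : G) else 1
  have hF : ∀ i (h : i < 192), F i = ((e.symm ⟨fu i,
      Subgroup.mem_centralizer_singleton_iff.2 (Tu.commute_t h)⟩ :
      Subgroup.centralizer ({t} : Set G)) : G) := fun i h => dif_pos h
  have hinj : ∀ i < 192, ∀ j < 192, F i = F j → i = j := fun i hi j hj h => by
    rw [hF i hi, hF j hj] at h
    exact Tu.inj i hi j hj (congrArg Subtype.val (e.symm.injective (Subtype.ext h)))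
  have hmul : ∀ i < 192, ∀ j < 192, F (mulT i j) = F i * F j := fun i hi j hj => by
    rw [hF _ (mulT_lt hi hj), hF i hi, hF j hj, ← Subgroup.coe_mul, ← map_mul]
    refine congrArg Subtype.val (congrArg e.symm (Subtype.ext ?_))
    exact Tu.mul i hi j hj
  have hone : F 0 = 1 := by
    rw [hF 0 (by norm_num)]
    have : (⟨fu 0, Subgroup.mem_centralizer_singleton_iff.2 (Tu.commute_t (by norm_num))⟩ :
        ↥(Subgroup.centralizer ({u} : Set ↥Cfsg.Spor.M12))) = 1 := Subtype.ext Tu.one
    rw [this, map_one, Subgroup.coe_one]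
  have hrange : ∀ x : G, x * t = t * x ↔ ∃ i < 192, F i = x := by
    intro x
    constructor
    · intro hx
      set y := e ⟨x, Subgroup.mem_centralizer_singleton_iff.2 hx⟩ with hy
      obtain ⟨i, hi, hiy⟩ := (Tu.range _).1 (Subgroup.mem_centralizer_singleton_iff.1 y.2)
      refine ⟨i, hi, ?_⟩
      rw [hF i hi]
      have : (⟨fu i, Subgroup.mem_centralizer_singleton_iff.2 (Tu.commute_t hi)⟩ :
          ↥(Subgroup.centralizer ({u} : Set ↥Cfsg.Spor.M12))) = y := Subtype.ext hiy
      rw [this, hy, MulEquiv.symm_apply_apply]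
    · rintro ⟨i, hi, rfl⟩
      rw [hF i hi]
      exact Subgroup.mem_centralizer_singleton_iff.1 (Subtype.prop _)
  refine ⟨F, hone, ?_, hinj, hmul, hrange⟩
  obtain ⟨k, hk, hkt⟩ := (hrange t).1 rfl
  have hk1 : k = 1 := by
    have hne : k ≠ 0 := fun h0 => by
      rw [h0, hone] at hkt
      rw [← hkt, orderOf_one] at ht
      omega
    have hc := allI_spec central_check hk
    simp only [Bool.or_eq_true, Bool.not_eq_true', Nat.blt_eq] at hc
    rcases hc with hc | hc
    · omega
    · exfalso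
      obtain ⟨j, hj, hjf⟩ := List.all_eq_false.1 hc
      rw [List.mem_range] at hj
      have h1 : F (mulT k j) = F (mulT j k) := by
        rw [hmul k hk j hj, hmul j hj k hk, hkt]
        exact ((hrange (F j)).2 ⟨j, hj, rfl⟩).symm
      have h2 := hinj _ (mulT_lt hk hj) _ (mulT_lt hj hk) h1
      simp [commT, h2] at hjf
  rw [hk1] at hkt
  exact hkt

/-- A simple group with the centraliser of a central involution of the Mathieu group of degree 12. -/
theorem isoM12_of_centralizer {G : Type*} [Group G] [Finite G] [IsSimpleGroup G]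
    (u : ↥Cfsg.Spor.M12) (hu : Cfsg.IsTwoCentralInvolution u)
    (t : G) (ht : orderOf t = 2) (e : ↥(Subgroup.centralizer ({t} : Set G)) ≃*
      ↥(Subgroup.centralizer ({u} : Set ↥Cfsg.Spor.M12))) :
    Cfsg.Spor.IsoM12 G := by
  obtain ⟨f, T⟩ := exists_table u hu t ht e
  have hG : Cfsg.IsM12 G := ⟨inferInstance, (Hyp.ofSimple ⟨t, f, T⟩ inferInstance).card_eq inferInstance⟩
  have hK : Cfsg.IsM12 ↥Cfsg.Spor.M12 := ⟨by
      rw [← Compute.Mathieu.m12_eq_spor]; exact Compute.Mathieu.isSimpleGroup_m12,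
    Fusion.Mathieu.card_M12⟩
  exact Recog95040.nonempty_mulEquiv_of_isM12 hG hK

end Cfsg.Agent.Lib.MTwelveInv
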