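import Cfsg.Agent.Lib.MTwelveInv.Basic
import Cfsg.Agent.Lib.Compute.Mathieu.Groups
import Cfsg.Agent.Lib.Compute.Twin
import Cfsg.Agent.Lib.Fusion.Mathieu.Identify
import Cfsg.Prelude.Def_SporadicB

/-!
The centraliser of a central involution of the Mathieu group of degree 12 is the table group.
-/

set_option autoImplicit false
set_option maxRecDepth 20000

namespace Cfsg.Agent.Lib.MTwelveInv

open Cfsg.Agent.Lib.Compute Cfsg.Agent.Lib.Compute.Mathieu

/-- The code of an element of the table. -/
noncomputable def elCode (i : ℕ) : ℕ × ℕ := elPairs.getD i (0, 0)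

theorem el_pair_check : allI (fun i => pairCheck 8 24 m12Chain (elCode i) &&
    Nat.beq (mulP 8 24 (elCode i).1 (elCode 1).1) (mulP 8 24 (elCode 1).1 (elCode i).1)) = true := by
  decide +kernel

theorem el_inj_check : allI (fun i => allI fun j =>
    !Nat.beq (elCode i).1 (elCode j).1 || Nat.beq i j) = true := by decide +kernel

theorem el_mul_check : allI (fun i => allI fun j =>
    Nat.beq (mulP 8 24 (elCode i).1 (elCode j).1) (elCode (mulT i j)).1) = true := by decide +kernel

theorem el_twins_check :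
    Nat.ble (twins (permOps 8 24) (elCode 1).1 (elCode 1).1 m12Chain).length 192 = true := by
  decide +kernel

theorem el_one_check : Nat.beq (elCode 0).1 (permOps 8 24).one = true := by decide +kernel

theorem m12_gensOK : GensOK ptCoding m12Gens := (gensOK_of_check pairsInM24_m12).1

theorem exists_el {i : ℕ} (hi : i < 192) :
    ∃ g : ↥Cfsg.Spor.M12, ptCoding.enc (g : Equiv.Perm Cfsg.GolayPt) = (elCode i).1 := by
  have h := allI_spec el_pair_check hi
  simp only [Bool.and_eq_true] at h
  obtain ⟨hpc, -⟩ := h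
  simp only [pairCheck, Bool.and_eq_true] at hpc
  obtain ⟨⟨⟨hc, h1⟩, h2⟩, hs⟩ := hpc
  obtain ⟨g, -, e1, -⟩ := pairOK_of_permCheck (w := 8) ptEquiv (by decide) hc
    (Nat.eq_of_beq_eq_true h1) (Nat.eq_of_beq_eq_true h2)
  refine ⟨⟨g, ?_⟩, e1⟩
  rw [Fusion.Mathieu.eq_m12]
  exact good_of_sift ptCoding m12_gensOK m12Chain_ok (e1.symm ▸ hs)

/-- The element with a given index. -/
noncomputable def elM (i : ℕ) : ↥Cfsg.Spor.M12 :=
  if h : i < 192 then (exists_el h).choose else 1

theorem enc_elM {i : ℕ} (hi : i < 192) :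
    ptCoding.enc (elM i : Equiv.Perm Cfsg.GolayPt) = (elCode i).1 := by
  rw [elM, dif_pos hi]
  exact (exists_el hi).choose_spec

theorem elM_inj {x y : ↥Cfsg.Spor.M12}
    (h : ptCoding.enc (x : Equiv.Perm Cfsg.GolayPt) = ptCoding.enc (y : Equiv.Perm Cfsg.GolayPt)) :
    x = y := Subtype.ext (ptCoding.inj h)

theorem mulP_enc (g h : Equiv.Perm Cfsg.GolayPt) :
    mulP 8 24 (ptCoding.enc g) (ptCoding.enc h) = ptCoding.enc (g * h) := by
  have hop : (permOps 8 24).mul = mulP 8 24 := by simp only [permOps]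
  rw [← hop]
  exact ptCoding.mul_enc g h

theorem enc_mul (x y : ↥Cfsg.Spor.M12) :
    ptCoding.enc ((x * y : ↥Cfsg.Spor.M12) : Equiv.Perm Cfsg.GolayPt) =
      mulP 8 24 (ptCoding.enc (x : Equiv.Perm Cfsg.GolayPt))
        (ptCoding.enc (y : Equiv.Perm Cfsg.GolayPt)) := by
  rw [mulP_enc, Subgroup.coe_mul]

theorem elM_table : Table (elM 1) elM := by
  classical
  have hinj : ∀ i < 192, ∀ j < 192, elM i = elM j → i = j := fun i hi j hj h => by
    have hc := allI_spec (allI_spec el_inj_check hi) hj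
    rw [← enc_elM hi, ← enc_elM hj, h] at hc
    simpa [beq_true_iff, beq_false_iff] using hc
  have hmul : ∀ i < 192, ∀ j < 192, elM (mulT i j) = elM i * elM j := fun i hi j hj => elM_inj (by
    rw [enc_elM (mulT_lt hi hj), enc_mul, enc_elM hi, enc_elM hj]
    exact (Nat.eq_of_beq_eq_true (allI_spec (allI_spec el_mul_check hi) hj)).symm)
  have hcomm : ∀ i < 192, elM i * elM 1 = elM 1 * elM i := fun i hi => elM_inj (by
    have h := allI_spec el_pair_check hi
    simp only [Bool.and_eq_true] at h
    rw [enc_mul, enc_mul, enc_elM hi, enc_elM (by norm_num : 1 < 192)]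
    exact Nat.eq_of_beq_eq_true h.2)
  refine ⟨?_, rfl, hinj, hmul, fun x => ⟨fun hx => ?_, fun ⟨i, hi, e⟩ => e ▸ hcomm i hi⟩⟩
  · refine elM_inj ?_
    rw [enc_elM (by norm_num), Nat.eq_of_beq_eq_true el_one_check]
    exact ptCoding.one_enc.symm
  · have hx' : ∀ y : ↥Cfsg.Spor.M12, y * elM 1 = elM 1 * y →
        ptCoding.enc (y : Equiv.Perm Cfsg.GolayPt) ∈
          twins (permOps 8 24) (elCode 1).1 (elCode 1).1 m12Chain := fun y hy => by
      rw [← enc_elM (by norm_num : 1 < 192)]
      refine enc_mem_twins ptCoding m12_gensOK m12Chain_ok ?_ (congrArg Subtype.val hy)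
      exact Fusion.Mathieu.eq_m12 ▸ y.2
    have key := hx' x hx
    have hle := Nat.le_of_ble_eq_true el_twins_check
    generalize twins (permOps 8 24) (elCode 1).1 (elCode 1).1 m12Chain = L at hx' key hle
    have hsub : (Finset.range 192).image
        (fun i => ptCoding.enc (elM i : Equiv.Perm Cfsg.GolayPt)) ⊆ L.toFinset := by
      intro c hc
      obtain ⟨i, hi, rfl⟩ := Finset.mem_image.1 hc
      exact List.mem_toFinset.2 (hx' _ (hcomm i (Finset.mem_range.1 hi)))
    have heq := Finset.eq_of_subset_of_card_le hsub (by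
      rw [Finset.card_image_of_injOn]
      · rw [Finset.card_range]; exact (List.toFinset_card_le L).trans hle
      · intro i hi j hj h
        exact hinj i (Finset.mem_range.1 hi) j (Finset.mem_range.1 hj) (elM_inj h))
    rw [← List.mem_toFinset, ← heq, Finset.mem_image] at key
    obtain ⟨i, hi, he⟩ := key
    exact ⟨i, Finset.mem_range.1 hi, elM_inj he⟩

/-- A Sylow 2-subgroup of the table group has centre of order two, so every central involution of
the Mathieu group is conjugate to the one with index one. -/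
theorem exists_conj_elM (u : ↥Cfsg.Spor.M12) (hu : Cfsg.IsTwoCentralInvolution u) :
    ∃ g : ↥Cfsg.Spor.M12, g * elM 1 * g⁻¹ = u := by
  classical
  have : Fact (Nat.Prime 2) := ⟨Nat.prime_two⟩
  obtain ⟨hu2, P, huP, hP⟩ := hu
  have hchk := sylow_check
  simp only [Bool.and_eq_true] at hchk
  obtain ⟨⟨⟨⟨hclosed, hcnt⟩, h0⟩, h1⟩, hcentre⟩ := hchk
  set S := elM_table.subgroupOfMask sylMask hclosed h0
  have hS : Nat.card S = 64 := by
    rw [Table.card_subgroupOfMask]; exact Nat.eq_of_beq_eq_true hcnt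
  have hfac : 95040 = 2 ^ 6 * 1485 := by norm_num
  let Q : Sylow 2 ↥Cfsg.Spor.M12 := Sylow.ofCard S (by
    rw [hS, Fusion.Mathieu.card_M12, hfac,
      Nat.factorization_mul (by norm_num) (by norm_num), Finsupp.add_apply,
      Nat.Prime.factorization_pow Nat.prime_two, Finsupp.single_eq_same,
      Nat.factorization_eq_zero_of_not_dvd (by norm_num)]
    norm_num)
  have hQ : (Q : Subgroup ↥Cfsg.Spor.M12) = S := rfl
  obtain ⟨g, hg⟩ := MulAction.exists_smul_eq ↥Cfsg.Spor.M12 P Q
  have hmem : ∀ x, x ∈ (P : Subgroup ↥Cfsg.Spor.M12) → g * x * g⁻¹ ∈ S := fun x hx => by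
    rw [← hQ, ← hg]
    exact Subgroup.mem_map.2 ⟨x, hx, rfl⟩
  obtain ⟨i, hi, hbit, he⟩ := (elM_table.mem_subgroupOfMask).1 (hmem u huP)
  have hi1 : i = 1 := by
    have hne : i ≠ 0 := by
      rintro rfl
      rw [elM_table.one] at he
      have h' : u = 1 := by simpa using he.symm
      rw [h', orderOf_one] at hu2
      omega
    have hall := allI_spec hcentre hi
    simp only [Bool.or_eq_true, Bool.not_eq_true'] at hall
    rcases hall with (hall | hall) | hall
    · rw [hbit] at hall; exact absurd hall (by simp)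
    · rw [Nat.blt_eq] at hall; omega
    · exfalso
      obtain ⟨j, hj, hjf⟩ := List.all_eq_false.1 hall
      rw [List.mem_range] at hj
      simp only [Bool.not_eq_true, Bool.or_eq_false_iff, Bool.not_eq_false'] at hjf
      obtain ⟨hjb, hjc⟩ := hjf
      have hjS : elM j ∈ S := (elM_table.mem_subgroupOfMask_index hj).2 hjb
      rw [← hQ, ← hg] at hjS
      obtain ⟨y, hy, hye⟩ := Subgroup.mem_map.1 hjS
      have hc : Commute (elM i) (elM j) := by
        rw [he, ← hye]
        exact ((hP y hy).symm : u * y = y * u) |> fun h => (Commute.map (show Commute u y from h)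
          (MulAut.conj g).toMonoidHom)
      rw [elM_table.commute_iff hi hj, hjc] at hc
      simp at hc
  refine ⟨g⁻¹, ?_⟩
  rw [hi1] at he
  rw [he]; group

end Cfsg.Agent.Lib.MTwelveInv
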